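import Mathlib
import Groth.Prelude.Def_QuadGrp

namespace Helper5.HalfDisc
open QuadGrp MvPolynomial Matrix TensorProduct

variable {n : ℕ}

/-- the skew matrix congruent to the universal polar matrix modulo 2 -/
noncomputable def skewMat (n : ℕ) : Matrix (Fin n) (Fin n) (MvPolynomial (Sym2 (Fin n)) ℤ) :=
  Matrix.of fun i j => if i < j then X (Sym2.mk i j) else if j < i then - X (Sym2.mk i j) else 0

theorem skewMat_transpose (n : ℕ) : (skewMat n)ᵀ = - skewMat n := by
  refine Matrix.ext fun i j => ?_
  simp only [skewMat, transpose_apply, of_apply, Matrix.neg_apply]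
  rcases lt_trichotomy i j with h | h | h
  · rw [if_neg (not_lt.mpr h.le), if_pos h, if_pos h, Sym2.eq_swap]
  · subst h; simp
  · rw [if_pos h, if_neg (not_lt.mpr h.le), if_pos h, neg_neg, Sym2.eq_swap]

theorem det_skewMat (hn : Odd n) : (skewMat n).det = 0 := by
  have h1 : (skewMat n).det = - (skewMat n).det := by
    conv_lhs => rw [← det_transpose, skewMat_transpose, det_neg, Fintype.card_fin, hn.neg_one_pow]
    ring
  have h2 : (2 : MvPolynomial (Sym2 (Fin n)) ℤ) * (skewMat n).det = 0 := by
    linear_combination h1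
  rcases mul_eq_zero.mp h2 with h | h
  · exact absurd h two_ne_zero
  · exact h

theorem map_discUniv_eq_zero (hn : Odd n) :
    MvPolynomial.map (Int.castRingHom (ZMod 2)) (discUniv n) = 0 := by
  have h2 : (2 : MvPolynomial (Sym2 (Fin n)) (ZMod 2)) = 0 := CharTwo.two_eq_zero
  have key : (MvPolynomial.map (Int.castRingHom (ZMod 2))).mapMatrix (univPolarMat n) =
      (MvPolynomial.map (Int.castRingHom (ZMod 2))).mapMatrix (skewMat n) := by
    refine Matrix.ext fun i j => ?_
    simp only [RingHom.mapMatrix_apply, Matrix.map_apply, univPolarMat, skewMat, of_apply]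
    rcases lt_trichotomy i j with h | h | h
    · rw [if_neg h.ne, if_pos h]
    · subst h; simp [h2]
    · rw [if_neg h.ne', if_neg (not_lt.mpr h.le), if_pos h, map_neg, CharTwo.neg_eq]
  rw [discUniv, RingHom.map_det, key, ← RingHom.map_det, det_skewMat hn, map_zero]

theorem even_coeff_discUniv (hn : Odd n) (s : Sym2 (Fin n) →₀ ℕ) :
    (2 : ℤ) ∣ MvPolynomial.coeff s (discUniv n) := by
  have h := congrArg (MvPolynomial.coeff s) (map_discUniv_eq_zero hn)
  rw [MvPolynomial.coeff_map, MvPolynomial.coeff_zero] at h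
  exact (ZMod.intCast_zmod_eq_zero_iff_dvd _ 2).mp h

theorem two_mul_halfDiscUniv (hn : Odd n) : 2 * halfDiscUniv n = discUniv n := by
  ext s
  have : (2 : MvPolynomial (Sym2 (Fin n)) ℤ) = C 2 := rfl
  rw [this, coeff_C_mul, coeff_halfDiscUniv]
  exact Int.mul_ediv_cancel' (even_coeff_discUniv hn s)


section general
variable {S : Type*} [CommRing S]

/-- coefficient function (on unordered pairs) of the quadratic form `x ↦ xᵀ T x` -/
def cOf (T : Matrix (Fin n) (Fin n) S) : Sym2 (Fin n) → S :=
  Sym2.lift ⟨fun i j => if i = j then T i i else T i j + T j i, fun i j => by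
    by_cases h : i = j
    · subst h; rfl
    · dsimp only
      rw [if_neg h, if_neg (Ne.symm h), add_comm]⟩

theorem cOf_mk (T : Matrix (Fin n) (Fin n) S) (i j : Fin n) :
    cOf T (Sym2.mk i j) = if i = j then T i i else T i j + T j i := rfl

theorem eval_discUniv (T : Matrix (Fin n) (Fin n) S) :
    eval₂ (Int.castRingHom S) (cOf T) (discUniv n) = (T + Tᵀ).det := by
  have h := RingHom.map_det (eval₂Hom (Int.castRingHom S) (cOf T)) (univPolarMat n)
  rw [discUniv]
  refine h.trans ?_
  congr 1
  refine Matrix.ext fun i j => ?_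
  simp only [RingHom.mapMatrix_apply, Matrix.map_apply, univPolarMat, of_apply, Matrix.add_apply,
    transpose_apply]
  by_cases hij : i = j
  · subst hij
    simp [cOf_mk, two_mul]
  · simp [cOf_mk, hij]

/-- the half-discriminant of the quadratic form `x ↦ xᵀ T x` -/
noncomputable def hd (T : Matrix (Fin n) (Fin n) S) : S :=
  eval₂ (Int.castRingHom S) (cOf T) (halfDiscUniv n)

theorem two_mul_hd (hn : Odd n) (T : Matrix (Fin n) (Fin n) S) : 2 * hd T = (T + Tᵀ).det := by
  rw [← eval_discUniv, ← two_mul_halfDiscUniv hn, hd, eval₂_mul]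
  congr 1
  simp

theorem hd_map {S' : Type*} [CommRing S'] (φ : S →+* S') (T : Matrix (Fin n) (Fin n) S) :
    hd (φ.mapMatrix T) = φ (hd T) := by
  rw [hd, hd, eval₂_comp_left φ]
  congr 1
  · exact RingHom.ext_int _ _
  · funext s
    induction s using Sym2.ind with
    | _ i j =>
      simp only [Function.comp_apply, cOf_mk, RingHom.mapMatrix_apply, Matrix.map_apply]
      split_ifs <;> simp

end general

section universal

/-- the universal ring -/
abbrev U (n : ℕ) := MvPolynomial ((Fin n × Fin n) ⊕ (Fin n × Fin n)) ℤ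

theorem hd_conj_of_two_ne (hn : Odd n) {S : Type*} [CommRing S] [IsDomain S] (h2 : (2 : S) ≠ 0)
    (T G : Matrix (Fin n) (Fin n) S) : hd (Gᵀ * T * G) = G.det ^ 2 * hd T := by
  apply mul_left_cancel₀ h2
  rw [two_mul_hd hn, mul_left_comm, two_mul_hd hn]
  have : Gᵀ * T * G + (Gᵀ * T * G)ᵀ = Gᵀ * (T + Tᵀ) * G := by
    simp only [transpose_mul, transpose_transpose, Matrix.mul_add, Matrix.add_mul, Matrix.mul_assoc]
  rw [this, det_mul, det_mul, det_transpose]
  ring

theorem hd_conj (hn : Odd n) {S : Type*} [CommRing S]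
    (T G : Matrix (Fin n) (Fin n) S) : hd (Gᵀ * T * G) = G.det ^ 2 * hd T := by
  let φ : U n →+* S := eval₂Hom (Int.castRingHom S)
    (Sum.elim (fun p => T p.1 p.2) (fun p => G p.1 p.2))
  let T' : Matrix (Fin n) (Fin n) (U n) := Matrix.of fun i j => X (Sum.inl (i, j))
  let G' : Matrix (Fin n) (Fin n) (U n) := Matrix.of fun i j => X (Sum.inr (i, j))
  have hT : φ.mapMatrix T' = T := by
    refine Matrix.ext fun i j => ?_
    simp [φ, T']
  have hG : φ.mapMatrix G' = G := by
    refine Matrix.ext fun i j => ?_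
    simp [φ, G']
  have h2 : (2 : U n) ≠ 0 := two_ne_zero
  have key := hd_conj_of_two_ne hn h2 T' G'
  have hGt : φ.mapMatrix G'ᵀ = Gᵀ := by
    rw [← hG]
    exact Matrix.ext fun i j => rfl
  calc hd (Gᵀ * T * G) = hd (φ.mapMatrix (G'ᵀ * T' * G')) := by rw [map_mul, map_mul, hT, hG, hGt]
    _ = φ (hd (G'ᵀ * T' * G')) := hd_map _ _
    _ = φ (G'.det ^ 2 * hd T') := by rw [key]
    _ = (φ G'.det) ^ 2 * φ (hd T') := by rw [map_mul, map_pow]
    _ = G.det ^ 2 * hd T := by rw [RingHom.map_det, hG, ← hd_map, hT]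

end universal


section connect
variable {R : Type*} [CommRing R] {M : Type*} [AddCommGroup M] [Module R M]

theorem halfDisc_eq_hd (b : Module.Basis (Fin n) R M) (Q : QuadraticForm R M)
    (B : LinearMap.BilinMap R M R) (hB : B.toQuadraticMap = Q) :
    halfDisc b (LinearEquiv.refl R R) Q = hd (LinearMap.toMatrix₂ b b B) := by
  rw [halfDisc, hd]
  congr 1
  funext s
  induction s using Sym2.ind with
  | _ i j =>
    rw [coeffs_mk, cOf_mk]
    simp only [LinearMap.toMatrix₂_apply, LinearEquiv.refl_apply, ← hB,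
      LinearMap.BilinMap.toQuadraticMap_apply, LinearMap.BilinMap.polar_toQuadraticMap]

theorem halfDisc_comp (hn : Odd n) (b : Module.Basis (Fin n) R M) (Q : QuadraticForm R M)
    (g : M →ₗ[R] M) :
    halfDisc b (LinearEquiv.refl R R) (Q.comp g) =
      LinearMap.det g ^ 2 * halfDisc b (LinearEquiv.refl R R) Q := by
  have : Module.Free R M := Module.Free.of_basis b
  obtain ⟨B, hB⟩ := LinearMap.BilinMap.toQuadraticMap_surjective Q
  rw [halfDisc_eq_hd b Q B hB, halfDisc_eq_hd b (Q.comp g) (B.compl₁₂ g g)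
    (by rw [LinearMap.BilinMap.toQuadraticMap_comp_same, hB]),
    LinearMap.toMatrix₂_compl₁₂ b b, hd_conj hn, LinearMap.det_toMatrix]

end connect

section block
variable {n : ℕ}

theorem hd_block_of_two_ne (hn : Odd (n + 1)) {S : Type*} [CommRing S] [IsDomain S] (h2 : (2 : S) ≠ 0)
    (T : Matrix (Fin (n + 1)) (Fin (n + 1)) S) (k : Fin (n + 1))
    (hT : ∀ j, j ≠ k → T k j + T j k = 0) :
    hd T = T k k * ((T + Tᵀ).submatrix k.succAbove k.succAbove).det := by
  apply mul_left_cancel₀ h2
  rw [two_mul_hd hn, det_succ_row _ k, Finset.sum_eq_single k]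
  · have h1 : ((-1 : S) ^ ((k : ℕ) + (k : ℕ))) = 1 := Even.neg_one_pow ⟨_, rfl⟩
    rw [h1, Matrix.add_apply, transpose_apply]
    ring
  · intro j _ hj
    rw [Matrix.add_apply, transpose_apply, hT j hj]
    ring
  · intro h; exact absurd (Finset.mem_univ k) h

theorem hd_block (hn : Odd (n + 1)) {S : Type*} [CommRing S]
    (T : Matrix (Fin (n + 1)) (Fin (n + 1)) S) (k : Fin (n + 1))
    (hT : ∀ j, j ≠ k → T k j + T j k = 0) :
    hd T = T k k * ((T + Tᵀ).submatrix k.succAbove k.succAbove).det := by
  let φ : MvPolynomial (Fin (n + 1) × Fin (n + 1)) ℤ →+* S := eval₂Hom (Int.castRingHom S) (fun p => T p.1 p.2)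
  let T' : Matrix (Fin (n + 1)) (Fin (n + 1)) (MvPolynomial (Fin (n + 1) × Fin (n + 1)) ℤ) :=
    Matrix.of fun i j => if j = k ∧ i ≠ k then - X (k, i) else X (i, j)
  have hT' : ∀ j, j ≠ k → T' k j + T' j k = 0 := by
    intro j hj
    simp only [T', of_apply]
    rw [if_neg (fun h => hj h.1), if_pos ⟨trivial, hj⟩]
    ring
  have hφ : φ.mapMatrix T' = T := by
    refine Matrix.ext fun i j => ?_
    simp only [RingHom.mapMatrix_apply, Matrix.map_apply, T', of_apply]
    split_ifs with h
    · obtain ⟨rfl, hi⟩ := h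
      have := hT i hi
      have e : φ (X (j, i)) = T j i := by simp [φ]
      rw [map_neg, e]
      linear_combination -this
    · simp [φ]
  have h2 : (2 : MvPolynomial (Fin (n + 1) × Fin (n + 1)) ℤ) ≠ 0 := two_ne_zero
  have key := hd_block_of_two_ne hn h2 T' k hT'
  have := congrArg φ key
  rw [← hd_map, hφ, map_mul, RingHom.map_det] at this
  rw [this]
  congr 1
  · rw [← hφ]; rfl
  · congr 1
    rw [← hφ]
    refine Matrix.ext fun i j => ?_
    simp [RingHom.mapMatrix_apply]


theorem conj_apply {S : Type*} [CommRing S] {N : Type*} [Fintype N] [DecidableEq N]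
    (G A : Matrix N N S) (i j : N) :
    (Gᵀ * A * G) i j = (fun p => G p i) ⬝ᵥ A *ᵥ (fun p => G p j) := by
  simp only [Matrix.mul_apply, dotProduct, mulVec, transpose_apply, Finset.sum_mul, Finset.mul_sum]
  rw [Finset.sum_comm]
  refine Finset.sum_congr rfl fun p _ => Finset.sum_congr rfl fun l _ => ?_
  ring

theorem hd_ker (hn : Odd (n + 1)) {S : Type*} [CommRing S]
    (T : Matrix (Fin (n + 1)) (Fin (n + 1)) S) (x : Fin (n + 1) → S)
    (hx : (T + Tᵀ) *ᵥ x = 0) (k : Fin (n + 1)) :
    hd T * x k ^ 2 = (x ⬝ᵥ T *ᵥ x) * ((T + Tᵀ).submatrix k.succAbove k.succAbove).det := by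
  set G : Matrix (Fin (n + 1)) (Fin (n + 1)) S := (1 : Matrix _ _ S).updateCol k x with hG
  have hdet : G.det = x k := by
    rw [hG, ← cramer_apply, cramer_one]; rfl
  have hGk : (fun p => G p k) = x := by
    funext p; simp [G]
  have hGj : ∀ j, j ≠ k → (fun p => G p j) = Pi.single j 1 := by
    intro j hj; funext p
    simp [G, hj, Matrix.one_apply, Pi.single_apply]
  have hsum : Gᵀ * T * G + (Gᵀ * T * G)ᵀ = Gᵀ * (T + Tᵀ) * G := by
    simp only [transpose_mul, transpose_transpose, Matrix.mul_add, Matrix.add_mul, Matrix.mul_assoc]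
  have hxl : x ᵥ* (T + Tᵀ) = 0 := by
    rw [← mulVec_transpose, transpose_add, transpose_transpose, add_comm Tᵀ T]; exact hx
  have hhyp : ∀ j, j ≠ k → (Gᵀ * T * G) k j + (Gᵀ * T * G) j k = 0 := by
    intro j _
    have e : (Gᵀ * T * G) k j + (Gᵀ * T * G) j k = (Gᵀ * (T + Tᵀ) * G) k j := by
      rw [← hsum]; rfl
    rw [e, conj_apply, hGk, dotProduct_mulVec, hxl, zero_dotProduct]
  have h1 := hd_block hn (Gᵀ * T * G) k hhyp
  rw [hd_conj hn, hdet, hsum] at h1
  rw [mul_comm, h1, conj_apply, hGk]
  congr 2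
  refine Matrix.ext fun a b => ?_
  simp only [submatrix_apply]
  rw [conj_apply, hGj _ (Fin.succAbove_ne k a), hGj _ (Fin.succAbove_ne k b)]
  simp

end block

section matfield
variable {n : ℕ} {K : Type*} [Field K]

theorem mulVec_succAbove (P : Matrix (Fin (n + 1)) (Fin (n + 1)) K) (k : Fin (n + 1))
    (y : Fin (n + 1) → K) (hyk : y k = 0) (a : Fin n) :
    (P *ᵥ y) (k.succAbove a) = ((P.submatrix k.succAbove k.succAbove) *ᵥ (y ∘ k.succAbove)) a := by
  simp only [mulVec, dotProduct, submatrix_apply, Function.comp_apply]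
  rw [Fin.sum_univ_succAbove _ k, hyk, mul_zero, zero_add]

theorem factC (P : Matrix (Fin (n + 1)) (Fin (n + 1)) K) (k : Fin (n + 1))
    (hD : (P.submatrix k.succAbove k.succAbove).det ≠ 0)
    (y : Fin (n + 1) → K) (hy : P *ᵥ y = 0) (hyk : y k = 0) : y = 0 := by
  have h1 : (P.submatrix k.succAbove k.succAbove) *ᵥ (y ∘ k.succAbove) = 0 := by
    funext a
    rw [← mulVec_succAbove P k y hyk a, hy]; rfl
  have h2 := eq_zero_of_mulVec_eq_zero hD h1
  funext j
  rcases Fin.eq_self_or_eq_succAbove k j with rfl | ⟨c, rfl⟩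
  · exact hyk
  · exact congrFun h2 c

theorem factD (P : Matrix (Fin (n + 1)) (Fin (n + 1)) K) (hP : Pᵀ = P) (k : Fin (n + 1))
    (hD : (P.submatrix k.succAbove k.succAbove).det = 0)
    (x : Fin (n + 1) → K) (hx : P *ᵥ x = 0) (hxk : x k ≠ 0) :
    ∃ y : Fin (n + 1) → K, y ≠ 0 ∧ P *ᵥ y = 0 ∧ y k = 0 := by
  obtain ⟨w, hw0, hw⟩ := exists_mulVec_eq_zero_iff.mpr hD
  refine ⟨k.insertNth 0 w, ?_, ?_, by simp⟩
  · intro h
    apply hw0
    funext c
    have := congrFun h (k.succAbove c)
    simpa using this
  · have hrow : ∀ a, (P *ᵥ (k.insertNth (0 : K) w : Fin (n + 1) → K)) (k.succAbove a) = 0 := by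
      intro a
      rw [mulVec_succAbove P k _ (by simp) a]
      have : ((k.insertNth (0 : K) w : Fin (n + 1) → K) ∘ k.succAbove) = w := by
        funext c; simp
      rw [this, hw]; rfl
    have hxl : x ᵥ* P = 0 := by rw [← mulVec_transpose, hP]; exact hx
    have h0 : x ⬝ᵥ (P *ᵥ (k.insertNth (0 : K) w : Fin (n + 1) → K)) = 0 := by
      rw [dotProduct_mulVec, hxl, zero_dotProduct]
    rw [dotProduct, Fin.sum_univ_succAbove _ k] at h0
    simp only [hrow, mul_zero, Finset.sum_const_zero, add_zero] at h0
    funext j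
    rcases Fin.eq_self_or_eq_succAbove k j with rfl | ⟨c, rfl⟩
    · rcases mul_eq_zero.mp h0 with h | h
      · exact absurd h hxk
      · exact h
    · exact hrow c

end matfield

section fieldcase
variable {n : ℕ} {K : Type*} [Field K] {V : Type*} [AddCommGroup V] [Module K V]

theorem halfDisc_ne_zero_iff (hn : Odd (n + 1)) (b : Module.Basis (Fin (n + 1)) K V)
    (Q : QuadraticForm K V) :
    halfDisc b (LinearEquiv.refl K K) Q ≠ 0 ↔ Q.Nondegenerate := by
  have hfree : Module.Free K V := Module.Free.of_basis b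
  obtain ⟨B, hB⟩ := LinearMap.BilinMap.toQuadraticMap_surjective Q
  set T := LinearMap.toMatrix₂ b b B with hTdef
  rw [halfDisc_eq_hd b Q B hB]
  have hPm : T + Tᵀ = LinearMap.toMatrix₂ b b (QuadraticMap.polarBilin Q) := by
    refine Matrix.ext fun i j => ?_
    simp only [Matrix.add_apply, transpose_apply, hTdef, LinearMap.toMatrix₂_apply, ← hB,
      QuadraticMap.polarBilin_apply_apply, LinearMap.BilinMap.polar_toQuadraticMap]
  have hsymm : (T + Tᵀ)ᵀ = T + Tᵀ := by
    rw [transpose_add, transpose_transpose, add_comm Tᵀ T]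
  by_cases h2 : (2 : K) = 0
  · -- characteristic two
    set e := b.equivFun with he
    have hpol : ∀ v w : V, QuadraticMap.polarBilin Q v w = (e v) ⬝ᵥ (T + Tᵀ) *ᵥ (e w) := by
      intro v w
      rw [hPm]
      have := apply_eq_dotProduct_toMatrix₂_mulVec b b (QuadraticMap.polarBilin Q) v w
      simpa [he, Module.Basis.equivFun_apply] using this
    have hQv : ∀ v : V, Q v = (e v) ⬝ᵥ T *ᵥ (e v) := by
      intro v
      have := apply_eq_dotProduct_toMatrix₂_mulVec b b B v v
      rw [← hB, LinearMap.BilinMap.toQuadraticMap_apply]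
      simpa [he, Module.Basis.equivFun_apply] using this
    have hker : ∀ v : V, QuadraticMap.polarBilin Q v = 0 ↔ (T + Tᵀ) *ᵥ (e v) = 0 := by
      intro v
      constructor
      · intro hv
        funext i
        have h1 := hpol (b i) v
        have hebi : e (b i) = Pi.single i 1 := by
          funext j
          rw [he, Module.Basis.equivFun_self, Pi.single_apply]
          simp [eq_comm]
        rw [hebi, single_one_dotProduct] at h1
        rw [← h1, QuadraticMap.polarBilin_apply_apply, QuadraticMap.polar_comm,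
          ← QuadraticMap.polarBilin_apply_apply, hv]
        rfl
      · intro hv
        refine LinearMap.ext fun w => ?_
        rw [QuadraticMap.polarBilin_apply_apply, QuadraticMap.polar_comm,
          ← QuadraticMap.polarBilin_apply_apply, hpol, hv, dotProduct_zero]
        rfl
    have hB' : ∀ v : V, QuadraticMap.polarBilin Q v = 0 → ∀ k,
        hd T * (e v k) ^ 2 = Q v * ((T + Tᵀ).submatrix k.succAbove k.succAbove).det := by
      intro v hv k
      rw [hQv]
      exact hd_ker hn T (e v) ((hker v).mp hv) k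
    have hdet0 : (T + Tᵀ).det = 0 := by
      rw [← two_mul_hd hn, h2, zero_mul]
    constructor
    · intro h
      refine ⟨?_, ?_⟩
      · rw [eq_bot_iff]
        intro v hv
        have hv' : Q v = 0 ∧ QuadraticMap.polarBilin Q v = 0 := hv
        rw [Submodule.mem_bot]
        apply e.injective
        rw [map_zero]
        funext k
        have := hB' v hv'.2 k
        rw [hv'.1, zero_mul] at this
        rcases mul_eq_zero.mp this with h' | h'
        · exact absurd h' h
        · exact pow_eq_zero_iff (two_ne_zero) |>.mp h'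
      · by_cases hkb : (QuadraticMap.polarBilin Q).ker = ⊥
        · rw [hkb]; simp
        · obtain ⟨x, hxk, hx0⟩ := Submodule.exists_mem_ne_zero_of_ne_bot hkb
          have hxk' : QuadraticMap.polarBilin Q x = 0 := hxk
          have hex : e x ≠ 0 := fun h' => hx0 (e.injective (h'.trans (map_zero e).symm))
          obtain ⟨k, hk⟩ := Function.ne_iff.mp hex
          have hk' : e x k ≠ 0 := hk
          have hDk : ((T + Tᵀ).submatrix k.succAbove k.succAbove).det ≠ 0 := by
            intro hD
            have := hB' x hxk' k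
            rw [hD, mul_zero] at this
            rcases mul_eq_zero.mp this with h' | h'
            · exact h h'
            · exact hk' (pow_eq_zero_iff (two_ne_zero) |>.mp h')
          rw [rank_submodule_le_one_iff']
          refine ⟨x, fun y hy => ?_⟩
          have hyk : QuadraticMap.polarBilin Q y = 0 := hy
          rw [Submodule.mem_span_singleton]
          refine ⟨e y k / e x k, ?_⟩
          have hz : QuadraticMap.polarBilin Q (y - (e y k / e x k) • x) = 0 := by
            rw [map_sub, map_smul, hyk, hxk', smul_zero, sub_zero]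
          have hzk : e (y - (e y k / e x k) • x) k = 0 := by
            rw [map_sub, map_smul, Pi.sub_apply, Pi.smul_apply, smul_eq_mul,
              div_mul_cancel₀ _ hk', sub_self]
          have := factC (T + Tᵀ) k hDk _ ((hker _).mp hz) hzk
          have h0 : y - (e y k / e x k) • x = 0 := e.injective (this.trans (map_zero e).symm)
          exact (sub_eq_zero.mp h0).symm
    · rintro ⟨hrad, hrank⟩ h
      obtain ⟨xv, hxv0, hxv⟩ := exists_mulVec_eq_zero_iff.mpr hdet0
      set x := e.symm xv with hxdef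
      have hex : e x = xv := e.apply_symm_apply xv
      have hxk' : QuadraticMap.polarBilin Q x = 0 := (hker x).mpr (by rw [hex]; exact hxv)
      obtain ⟨k, hk⟩ := Function.ne_iff.mp hxv0
      have hk' : e x k ≠ 0 := by rw [hex]; exact hk
      have hQx : Q x ≠ 0 := by
        intro hq
        have : x ∈ Q.radical := ⟨hq, hxk'⟩
        rw [hrad, Submodule.mem_bot] at this
        rw [this, map_zero] at hk'
        exact hk' rfl
      have hDk : ((T + Tᵀ).submatrix k.succAbove k.succAbove).det = 0 := by
        have := hB' x hxk' k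
        rw [h, zero_mul] at this
        rcases mul_eq_zero.mp this.symm with h' | h'
        · exact absurd h' hQx
        · exact h'
      obtain ⟨yv, hyv0, hyv, hyvk⟩ := factD (T + Tᵀ) hsymm k hDk (e x) ((hker x).mp hxk') hk'
      set y := e.symm yv with hydef
      have hey : e y = yv := e.apply_symm_apply yv
      have hyk' : QuadraticMap.polarBilin Q y = 0 := (hker y).mpr (by rw [hey]; exact hyv)
      rw [rank_submodule_le_one_iff'] at hrank
      obtain ⟨v₀, hv₀⟩ := hrank
      obtain ⟨a, ha⟩ := Submodule.mem_span_singleton.mp (hv₀ (show x ∈ _ from hxk'))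
      obtain ⟨c, hc⟩ := Submodule.mem_span_singleton.mp (hv₀ (show y ∈ _ from hyk'))
      have h1 : a * e v₀ k ≠ 0 := by
        rw [← ha, map_smul, Pi.smul_apply, smul_eq_mul] at hk'
        exact hk'
      have h3 : c * e v₀ k = 0 := by
        have : e y k = 0 := by rw [hey]; exact hyvk
        rw [← hc, map_smul, Pi.smul_apply, smul_eq_mul] at this
        exact this
      have hc0 : c = 0 := by
        rcases mul_eq_zero.mp h3 with h' | h'
        · exact h'
        · rw [h', mul_zero] at h1; exact absurd rfl h1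
      apply hyv0
      rw [← hey, ← hc, hc0, zero_smul, map_zero]
  · -- characteristic not two
    have : Invertible (2 : K) := invertibleOfNonzero h2
    rw [← QuadraticMap.nondegenerate_polar_iff, ← LinearMap.nondegenerate_toMatrix₂_iff b b,
      ← hPm, Matrix.nondegenerate_iff_det_ne_zero, ← two_mul_hd hn]
    exact ⟨fun h => mul_ne_zero h2 h, fun h h' => h (by rw [h', mul_zero])⟩

end fieldcase

section basechange
variable {n : ℕ} {R : Type*} [CommRing R] {M : Type*} [AddCommGroup M] [Module R M] [Module.Free R M]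
variable (A : Type*) [CommRing A] [Algebra R A]

theorem baseChangeForm_one_tmul (Q : QuadraticForm R M) (x : M) :
    baseChangeForm A Q ((1 : A) ⊗ₜ[R] x) = algebraMap R A (Q x) := by
  rw [baseChangeForm, LinearMap.compQuadraticMap_apply, baseChange_tmul]
  simp [Algebra.algebraMap_eq_smul_one]

theorem polar_baseChangeForm_one_tmul (Q : QuadraticForm R M) (x y : M) :
    QuadraticMap.polar (baseChangeForm A Q) ((1 : A) ⊗ₜ[R] x) ((1 : A) ⊗ₜ[R] y) =
      algebraMap R A (QuadraticMap.polar Q x y) := by
  rw [QuadraticMap.polar, ← TensorProduct.tmul_add, baseChangeForm_one_tmul, baseChangeForm_one_tmul,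
    baseChangeForm_one_tmul, QuadraticMap.polar, map_sub, map_sub]

theorem halfDisc_baseChangeForm (b : Module.Basis (Fin n) R M) (Q : QuadraticForm R M) :
    halfDisc (Algebra.TensorProduct.basis A b) (LinearEquiv.refl A A) (baseChangeForm A Q) =
      algebraMap R A (halfDisc b (LinearEquiv.refl R R) Q) := by
  rw [halfDisc, halfDisc, eval₂_comp_left (algebraMap R A)]
  congr 1
  · exact RingHom.ext_int _ _
  · funext s
    induction s using Sym2.ind with
    | _ i j =>
      simp only [Function.comp_apply, coeffs_mk, Algebra.TensorProduct.basis_apply,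
        LinearEquiv.refl_apply, baseChangeForm_one_tmul, polar_baseChangeForm_one_tmul]
      split_ifs <;> rfl

end basechange

end Helper5.HalfDisc
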