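import Mathlib

set_option autoImplicit false

namespace Groth.Agent.Helper5.Incidence

open Classical

universe u v

variable {P : Type u} {ι : Type v} [Fintype ι] (inc : P → ι → Prop)

lemma card_eq (p : P) :
    Nat.card {j : ι // inc p j} = (Finset.univ.filter (fun j => inc p j)).card := by
  rw [Nat.card_eq_fintype_card, Fintype.card_subtype]

lemma two_le_iff (p : P) :
    2 ≤ Nat.card {j : ι // inc p j} ↔ ∃ i j, i ≠ j ∧ inc p i ∧ inc p j := by
  rw [card_eq, Nat.succ_le_iff, Finset.one_lt_card]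
  constructor
  · rintro ⟨a, ha, b, hb, hab⟩
    exact ⟨a, b, hab, (Finset.mem_filter.mp ha).2, (Finset.mem_filter.mp hb).2⟩
  · rintro ⟨a, b, hab, ha, hb⟩
    exact ⟨a, Finset.mem_filter.mpr ⟨Finset.mem_univ _, ha⟩, b,
      Finset.mem_filter.mpr ⟨Finset.mem_univ _, hb⟩, hab⟩

/-- The set of multiple points. -/
def mult : Set P := {p | 2 ≤ Nat.card {j : ι // inc p j}}

variable {inc}

lemma mult_finite
    (hfin : ∀ i j : ι, i ≠ j → {p : P | inc p i ∧ inc p j}.Finite) : (mult inc).Finite := by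
  have : mult inc ⊆ ⋃ x ∈ ((Finset.univ : Finset ι).offDiag : Set (ι × ι)),
      {p : P | inc p x.1 ∧ inc p x.2} := by
    intro p hp
    obtain ⟨i, j, hij, hi, hj⟩ := (two_le_iff inc p).mp hp
    simp only [Set.mem_iUnion]
    exact ⟨(i, j), by simp [hij], hi, hj⟩
  refine Set.Finite.subset ?_ this
  refine Set.Finite.biUnion (Finset.finite_toSet _) ?_
  intro x hx
  have hx' : x.1 ≠ x.2 := by
    have := Finset.mem_offDiag.mp (Finset.mem_coe.mp hx)
    exact this.2.2
  exact hfin x.1 x.2 hx'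

end Groth.Agent.Helper5.Incidence
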