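import Mathlib

/-! Inverse limits of finite nonempty sets, in a function form, and a lemma on directed
families of nonempty subsets of a finite type. -/

namespace Groth.Agent.Helper5

open CategoryTheory

universe u

/-- An inverse system of finite nonempty types over a directed preorder has a compatible
family. -/
theorem exists_compatible {J : Type u} [Preorder J] [IsDirected J (· ≤ ·)] [Nonempty J]
    (X : J → Type u) [∀ j, Finite (X j)] [∀ j, Nonempty (X j)]
    (f : ∀ {j k : J}, j ≤ k → X k → X j)
    (hid : ∀ (j : J) (x : X j), f (le_refl j) x = x)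
    (hcomp : ∀ {j k l : J} (h₁ : j ≤ k) (h₂ : k ≤ l) (x : X l),
      f h₁ (f h₂ x) = f (h₁.trans h₂) x) :
    ∃ x : ∀ j, X j, ∀ {j k : J} (h : j ≤ k), f h (x k) = x j := by
  let F : Jᵒᵖ ⥤ Type u :=
    { obj := fun j => X j.unop
      map := fun {j k} g => TypeCat.ofHom (f (leOfHom g.unop))
      map_id := by
        intro j
        ext x
        exact hid j.unop x
      map_comp := by
        intro j k l g h
        ext x
        exact (hcomp (leOfHom h.unop) (leOfHom g.unop) x).symm }
  have : ∀ j : Jᵒᵖ, Finite (F.obj j) := fun j => inferInstanceAs (Finite (X j.unop))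
  have : ∀ j : Jᵒᵖ, Nonempty (F.obj j) := fun j => inferInstanceAs (Nonempty (X j.unop))
  obtain ⟨s, hs⟩ := nonempty_sections_of_finite_inverse_system F
  refine ⟨fun j => s (Opposite.op j), ?_⟩
  intro j k h
  have := hs (homOfLE h).op
  exact this

/-- A directed family of nonempty subsets of a finite type has nonempty intersection. -/
theorem directed_iInter_nonempty {α : Type*} [Finite α] {ι : Type*} [Nonempty ι]
    (S : ι → Set α) (hne : ∀ i, (S i).Nonempty)
    (hdir : ∀ i j, ∃ k, S k ⊆ S i ∩ S j) :
    ∃ a : α, ∀ i, a ∈ S i := by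
  classical
  -- choose an index with minimal cardinality
  obtain ⟨i₀, hi₀⟩ : ∃ i₀ : ι, ∀ j, (S i₀).ncard ≤ (S j).ncard := by
    have hwf := wellFounded_lt (α := ℕ)
    let T : Set ℕ := Set.range (fun i => (S i).ncard)
    have hT : T.Nonempty := Set.range_nonempty _
    obtain ⟨i₀, hi₀⟩ := hwf.min_mem T hT
    refine ⟨i₀, fun j => ?_⟩
    have hj : (S j).ncard ∈ T := Set.mem_range_self j
    have := hwf.not_lt_min T hj
    rw [← hi₀] at this
    exact not_lt.1 this
  obtain ⟨a, ha⟩ := hne i₀
  refine ⟨a, fun j => ?_⟩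
  obtain ⟨k, hk⟩ := hdir i₀ j
  have hk₀ : S k ⊆ S i₀ := fun x hx => (hk hx).1
  have heq : S k = S i₀ := Set.eq_of_subset_of_ncard_le hk₀ (hi₀ k) (Set.toFinite _)
  have : a ∈ S k := by rw [heq]; exact ha
  exact (hk this).2

end Groth.Agent.Helper5
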