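import Mathlib
import Groth.Prelude.Def_QuadGrp
import Groth.Agent.Lib.Helper5.HalfDisc

namespace Helper5.OrthCenter
open Matrix TensorProduct QuadGrp Helper5.HalfDisc

theorem exists_ne_ne {n : ℕ} (hn : 3 ≤ n) (x y : Fin n) : ∃ a, a ≠ x ∧ a ≠ y := by
  by_contra h
  push Not at h
  have hsub : (Finset.univ : Finset (Fin n)) ⊆ {x, y} := fun a _ => by
    by_cases hax : a = x
    · simp [hax]
    · simp [h a hax]
  have h1 := Finset.card_le_card hsub
  have h2 : ({x, y} : Finset (Fin n)).card ≤ 2 := Finset.card_le_two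
  simp at h1
  omega

/-- the "semi-vector" form of the commutation identity -/
def SV {S : Type*} [CommRing S] {n : ℕ} (G P : Matrix (Fin n) (Fin n) S) : Prop :=
  ∀ (m u : Fin n → S) (c i : Fin n),
      (u ⬝ᵥ P *ᵥ m) * G i c - (P *ᵥ m) c * (G *ᵥ u) i =
      (u ⬝ᵥ P *ᵥ (G *ᵥ m)) * (if i = c then 1 else 0) - (P *ᵥ (G *ᵥ m)) c * u i

theorem scalar_of_SV {S : Type*} [CommRing S] {n : ℕ} (hn : 3 ≤ n) (G P : Matrix (Fin n) (Fin n) S)
    (hSV : SV G P) (k : Fin n) (f : Fin n → Fin n → S)
    (hf : ∀ a, a ≠ k → ∀ i, i ≠ k → (P *ᵥ f a) i = if i = a then 1 else 0) :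
    ∃ lam : S, G = lam • (1 : Matrix (Fin n) (Fin n) S) := by
  classical
  set t : Fin n → S := fun a => (P *ᵥ f a) k with ht
  set e' : Fin n → S := fun j => if j = k then 1 else - t j with he'
  set y : Fin n → Fin n → S := fun a => P *ᵥ (G *ᵥ f a) with hy
  have he'k : e' k = 1 := by simp [he']
  -- F0
  have F0 : ∀ a, a ≠ k → e' ⬝ᵥ P *ᵥ f a = 0 := by
    intro a hak
    have hv : ∀ j, e' j * (P *ᵥ f a) j =
        (if j = k then t a else 0) + (if j = a then - t a else 0) := by
      intro j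
      by_cases hjk : j = k
      · subst hjk
        simp [he', ht, Ne.symm hak]
      · rw [hf a hak j hjk]
        by_cases hja : j = a
        · subst hja; simp [he', hjk]
        · simp [hjk, hja]
    simp only [dotProduct, hv, Finset.sum_add_distrib, Finset.sum_ite_eq', Finset.mem_univ, if_true]
    ring
  -- F2
  have F2 : ∀ a, a ≠ k → ∀ b, b ≠ a → b ≠ k → y a b = 0 := by
    intro a hak b hba hbk
    have h := hSV (f a) e' b k
    rw [F0 a hak, hf a hak b hbk, if_neg hba, if_neg (Ne.symm hbk), he'k] at h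
    simp only [zero_mul, mul_zero, sub_zero, mul_one, zero_sub] at h
    have : y a b = P.mulVec (G.mulVec (f a)) b := rfl
    rw [this]
    exact (neg_eq_zero.mp h.symm)
  -- F3
  have F3 : ∀ a, a ≠ k → ∀ i, (G *ᵥ e') i = y a a * e' i - (e' ⬝ᵥ y a) * (if i = a then 1 else 0) := by
    intro a hak i
    have h := hSV (f a) e' a i
    rw [F0 a hak, hf a hak a hak, if_pos rfl] at h
    simp only [zero_mul, one_mul, zero_sub] at h
    have hy' : y a = P.mulVec (G.mulVec (f a)) := rfl
    rw [hy']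
    linear_combination -h
  set lam : S := (G *ᵥ e') k with hlam
  have hlam_a : ∀ a, a ≠ k → y a a = lam := by
    intro a hak
    have := F3 a hak k
    rw [he'k, if_neg (Ne.symm hak)] at this
    rw [hlam, this]; ring
  -- F1 / G1
  have G1 : ∀ i c, c ≠ k → G i c = lam * (if i = c then 1 else 0) := by
    intro i c hck
    obtain ⟨a, hac, hak⟩ := exists_ne_ne hn c k
    have h := hSV (f a) (Pi.single a 1) c i
    have h1 : (Pi.single a (1 : S) : Fin n → S) ⬝ᵥ P *ᵥ f a = 1 := by
      rw [single_one_dotProduct, hf a hak a hak, if_pos rfl]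
    have h2 : (Pi.single a (1 : S) : Fin n → S) ⬝ᵥ P *ᵥ (G *ᵥ f a) = y a a := by
      rw [single_one_dotProduct]
    rw [h1, h2, hf a hak c hck, if_neg (Ne.symm hac), hlam_a a hak] at h
    have h3 : P.mulVec (G.mulVec (f a)) c = 0 := F2 a hak c (Ne.symm hac) hck
    rw [h3] at h
    simpa using h
  -- G2
  have G2 : ∀ i, (G *ᵥ e') i = lam * e' i := by
    intro i
    obtain ⟨a, hai, hak⟩ := exists_ne_ne hn i k
    have := F3 a hak i
    rw [if_neg (Ne.symm hai), hlam_a a hak] at this
    rw [this]; ring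
  refine ⟨lam, ?_⟩
  -- G₀ = G - lam • 1 vanishes
  have H0 : ∀ i c, c ≠ k → (G - lam • (1 : Matrix (Fin n) (Fin n) S)) i c = 0 := by
    intro i c hck
    rw [Matrix.sub_apply, Matrix.smul_apply, Matrix.one_apply, G1 i c hck, smul_eq_mul, sub_self]
  have H1 : ∀ i, ((G - lam • (1 : Matrix (Fin n) (Fin n) S)) *ᵥ e') i = 0 := by
    intro i
    rw [Matrix.sub_mulVec, Pi.sub_apply, G2 i, Matrix.smul_mulVec, Matrix.one_mulVec, Pi.smul_apply,
      smul_eq_mul, sub_self]
  have H2 : ∀ i, (G - lam • (1 : Matrix (Fin n) (Fin n) S)) i k = 0 := by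
    intro i
    have := H1 i
    rw [Matrix.mulVec, dotProduct, Finset.sum_eq_single k] at this
    · rwa [he'k, mul_one] at this
    · intro c _ hck; rw [H0 i c hck, zero_mul]
    · intro h; exact absurd (Finset.mem_univ k) h
  have : G - lam • (1 : Matrix (Fin n) (Fin n) S) = 0 := by
    refine Matrix.ext fun i c => ?_
    by_cases hck : c = k
    · subst hck; exact H2 i
    · exact H0 i c hck
  exact sub_eq_zero.mp this


section infinitesimal
variable {A : Type*} [CommRing A] {N : Type*} [AddCommGroup N] [Module A N] (Qa : QuadraticForm A N)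

/-- the endomorphism `y ↦ B(y,u) w - B(y,w) u` -/
noncomputable def Xuw (u w : N) : N →ₗ[A] N :=
  ((QuadraticMap.polarBilin Qa).flip u).smulRight w - ((QuadraticMap.polarBilin Qa).flip w).smulRight u

theorem Xuw_apply (u w y : N) :
    Xuw Qa u w y = QuadraticMap.polar Qa y u • w - QuadraticMap.polar Qa y w • u := by
  simp [Xuw]

theorem polar_Xuw (u w y : N) : QuadraticMap.polar Qa y (Xuw Qa u w y) = 0 := by
  rw [Xuw_apply, QuadraticMap.polar_sub_right, QuadraticMap.polar_smul_right,
    QuadraticMap.polar_smul_right]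
  simp only [smul_eq_mul]
  ring

/-- the infinitesimal isometry `1 + ε X` -/
noncomputable def infIso (ε : A) (hε : ε * ε = 0) (X : N →ₗ[A] N) : N ≃ₗ[A] N :=
  LinearEquiv.ofLinearMap (LinearMap.id + ε • X) (LinearMap.id - ε • X)
    (by
      ext y
      show (y - ε • X y) + ε • X (y - ε • X y) = y
      rw [map_sub, map_smul, smul_sub, smul_smul, hε, zero_smul, sub_zero]
      abel)
    (by
      ext y
      show (y + ε • X y) - ε • X (y + ε • X y) = y
      rw [map_add, map_smul, smul_add, smul_smul, hε, zero_smul, add_zero]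
      abel)

theorem infIso_apply (ε : A) (hε : ε * ε = 0) (X : N →ₗ[A] N) (y : N) :
    infIso ε hε X y = y + ε • X y := rfl

theorem infIso_isometry (ε : A) (hε : ε * ε = 0) (X : N →ₗ[A] N)
    (hX : ∀ y, QuadraticMap.polar Qa y (X y) = 0) (y : N) :
    Qa (infIso ε hε X y) = Qa y := by
  rw [infIso_apply, QuadraticMap.map_add Qa, QuadraticMap.map_smul, QuadraticMap.polar_smul_right, hX,
    hε]
  simp

end infinitesimal

section dual
variable {R : Type*} [CommRing R] {M : Type*} [AddCommGroup M] [Module R M] [Module.Free R M]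

/-- the infinitesimal isometry of the base change to dual numbers attached to `u, w` -/
noncomputable def hUW (Q : QuadraticForm R M) (u w : M) :
    (DualNumber R ⊗[R] M) ≃ₗ[DualNumber R] (DualNumber R ⊗[R] M) :=
  infIso (DualNumber.eps) (DualNumber.eps_mul_eps)
    (Xuw (baseChangeForm (DualNumber R) Q) (1 ⊗ₜ u) (1 ⊗ₜ w))

theorem hUW_mem_O (Q : QuadraticForm R M) (u w : M) :
    hUW Q u w ∈ O (baseChangeForm (DualNumber R) Q) := by
  intro y
  exact infIso_isometry _ _ _ _ (fun y => polar_Xuw _ _ _ y) y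

theorem mem_orth_of_mem_O_form {A : Type*} [CommRing A] [Algebra R A] (Q : QuadraticForm R M)
    (h : (A ⊗[R] M) ≃ₗ[A] (A ⊗[R] M)) (hh : h ∈ O (baseChangeForm A Q)) : h ∈ orth Q A := by
  intro y
  have := hh y
  simp only [baseChangeForm, LinearMap.compQuadraticMap_apply] at this
  exact (AlgebraTensorModule.rid R A A).injective this

theorem hUW_mem_orth (Q : QuadraticForm R M) (u w : M) : hUW Q u w ∈ orth Q (DualNumber R) :=
  mem_orth_of_mem_O_form Q _ (hUW_mem_O Q u w)

theorem hUW_one_tmul (Q : QuadraticForm R M) (u w m : M) :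
    hUW Q u w (1 ⊗ₜ m) = 1 ⊗ₜ m + (DualNumber.eps : DualNumber R) ⊗ₜ
      (QuadraticMap.polar Q m u • w - QuadraticMap.polar Q m w • u) := by
  rw [hUW, infIso_apply, Xuw_apply, Helper5.HalfDisc.polar_baseChangeForm_one_tmul,
    Helper5.HalfDisc.polar_baseChangeForm_one_tmul]
  congr 1
  rw [TensorProduct.tmul_sub, smul_sub]
  simp only [algebraMap_smul, TensorProduct.tmul_smul]
  rw [TensorProduct.smul_tmul', TensorProduct.smul_tmul', TensorProduct.smul_tmul',
    TensorProduct.smul_tmul']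
  simp [TensorProduct.smul_tmul']

/-- retraction of `v ↦ ε ⊗ v` -/
noncomputable def rho : DualNumber R ⊗[R] M →ₗ[R] M :=
  (TensorProduct.lid R M).toLinearMap ∘ₗ LinearMap.rTensor M (TrivSqZeroExt.sndHom R R)

omit [Module.Free R M] in
theorem rho_eps_tmul (v : M) : rho ((DualNumber.eps : DualNumber R) ⊗ₜ[R] v) = v := by
  simp [rho]

omit [Module.Free R M] in
theorem rho_one_tmul (v : M) : rho ((1 : DualNumber R) ⊗ₜ[R] v) = 0 := by
  simp [rho]

theorem comm_of_comm (Q : QuadraticForm R M) (u w : M) (g : M ≃ₗ[R] M)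
    (hcomm : g.baseChange R (DualNumber R) M M * hUW Q u w =
      hUW Q u w * g.baseChange R (DualNumber R) M M) (m : M) :
    g (QuadraticMap.polar Q m u • w - QuadraticMap.polar Q m w • u) =
      QuadraticMap.polar Q (g m) u • w - QuadraticMap.polar Q (g m) w • u := by
  have h := congrArg (fun e => rho (e ((1 : DualNumber R) ⊗ₜ[R] m))) hcomm
  simp only [LinearEquiv.mul_apply, LinearEquiv.baseChange_tmul, hUW_one_tmul, map_add,
    rho_eps_tmul, rho_one_tmul, zero_add] at h
  exact h

end dual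

section entries
variable {S : Type*} [CommRing S] {n : ℕ}

/-- entry form of the commutation identity -/
def SVE (G P : Matrix (Fin n) (Fin n) S) : Prop :=
  ∀ a b c i : Fin n, P b a * G i c - P c a * G i b =
    (P * G) b a * (if i = c then 1 else 0) - (P * G) c a * (if i = b then 1 else 0)

theorem SVE_of_SV {G P : Matrix (Fin n) (Fin n) S} (h : SV G P) : SVE G P := by
  intro a b c i
  have := h (Pi.single a 1) (Pi.single b 1) c i
  rw [Matrix.mulVec_mulVec] at this
  simpa [Pi.single_apply, Matrix.col_apply] using this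

theorem SVE_map {S' : Type*} [CommRing S'] (φ : S →+* S') {G P : Matrix (Fin n) (Fin n) S}
    (h : SVE G P) : SVE (φ.mapMatrix G) (φ.mapMatrix P) := by
  intro a b c i
  have := congrArg φ (h a b c i)
  rw [← map_mul]
  simp only [RingHom.mapMatrix_apply, Matrix.map_apply]
  simp only [map_sub, map_mul, apply_ite φ, map_one, map_zero] at this
  exact this

theorem SV_of_SVE {G P : Matrix (Fin n) (Fin n) S} (h : SVE G P) : SV G P := by
  intro m u c i
  have E1 : ∀ (N : Matrix (Fin n) (Fin n) S), (u ⬝ᵥ N *ᵥ m) = ∑ a, ∑ b, m a * u b * N b a := by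
    intro N
    simp only [dotProduct, mulVec, Finset.mul_sum]
    rw [Finset.sum_comm]
    refine Finset.sum_congr rfl fun a _ => Finset.sum_congr rfl fun b _ => ?_
    ring
  have E2 : ∀ (N : Matrix (Fin n) (Fin n) S), (N *ᵥ m) c = ∑ a, m a * N c a := by
    intro N
    simp only [dotProduct, mulVec]
    exact Finset.sum_congr rfl fun a _ => mul_comm _ _
  have E3 : (G *ᵥ u) i = ∑ b, u b * G i b := by
    simp only [dotProduct, mulVec]
    exact Finset.sum_congr rfl fun a _ => mul_comm _ _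
  have E6 : u i = ∑ b, u b * (if i = b then 1 else 0) := by
    simp
  have T1 : ∀ (N : Matrix (Fin n) (Fin n) S) (x : S),
      (∑ a, ∑ b, m a * u b * N b a) * x = ∑ a, ∑ b, m a * u b * (N b a * x) := by
    intro N x
    rw [Finset.sum_mul]
    refine Finset.sum_congr rfl fun a _ => ?_
    rw [Finset.sum_mul]
    refine Finset.sum_congr rfl fun b _ => ?_
    ring
  have T2 : ∀ (N : Matrix (Fin n) (Fin n) S) (z : Fin n → S),
      (∑ a, m a * N c a) * (∑ b, u b * z b) = ∑ a, ∑ b, m a * u b * (N c a * z b) := by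
    intro N z
    rw [Finset.sum_mul_sum]
    refine Finset.sum_congr rfl fun a _ => Finset.sum_congr rfl fun b _ => ?_
    ring
  rw [Matrix.mulVec_mulVec, E1 P, E1 (P * G), E2 P, E2 (P * G), E3]
  conv_rhs => rw [E6]
  rw [T1, T1, T2 P (fun b => G i b), T2 (P * G) (fun b => if i = b then 1 else 0),
    ← Finset.sum_sub_distrib, ← Finset.sum_sub_distrib]
  refine Finset.sum_congr rfl fun a _ => ?_
  rw [← Finset.sum_sub_distrib, ← Finset.sum_sub_distrib]
  refine Finset.sum_congr rfl fun b _ => ?_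
  have := h a b c i
  linear_combination (m a * u b) * this

end entries

section overR
variable {R : Type*} [CommRing R] {n : ℕ}

/-- polar (Gram) matrix of a quadratic form on `Rⁿ` -/
noncomputable def Pmat (Q : QuadraticForm R (Fin n → R)) : Matrix (Fin n) (Fin n) R :=
  LinearMap.toMatrix₂' R (QuadraticMap.polarBilin Q)

theorem Pmat_apply (Q : QuadraticForm R (Fin n → R)) (i j : Fin n) :
    Pmat Q i j = QuadraticMap.polar Q (Pi.single i 1) (Pi.single j 1) := rfl

theorem Pmat_transpose (Q : QuadraticForm R (Fin n → R)) : (Pmat Q)ᵀ = Pmat Q := by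
  refine Matrix.ext fun i j => ?_
  rw [transpose_apply, Pmat_apply, Pmat_apply, QuadraticMap.polar_comm]

theorem polar_eq (Q : QuadraticForm R (Fin n → R)) (x y : Fin n → R) :
    QuadraticMap.polar Q x y = x ⬝ᵥ Pmat Q *ᵥ y := by
  have := Matrix.toLinearMap₂'_apply' (Pmat Q) x y
  rw [Pmat, Matrix.toLinearMap₂'_toMatrix'] at this
  exact this

theorem Pmat_mulVec (Q : QuadraticForm R (Fin n → R)) (x : Fin n → R) (c : Fin n) :
    (Pmat Q *ᵥ x) c = QuadraticMap.polar Q x (Pi.single c 1) := by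
  rw [QuadraticMap.polar_comm, polar_eq, single_one_dotProduct]

theorem SV_of_comm (Q : QuadraticForm R (Fin n → R)) (g : (Fin n → R) ≃ₗ[R] (Fin n → R))
    (hI : ∀ m u w : Fin n → R, g (QuadraticMap.polar Q m u • w - QuadraticMap.polar Q m w • u) =
      QuadraticMap.polar Q (g m) u • w - QuadraticMap.polar Q (g m) w • u) :
    SV (LinearMap.toMatrix' (g : (Fin n → R) →ₗ[R] (Fin n → R))) (Pmat Q) := by
  intro m u c i
  have h := congrFun (hI m u (Pi.single c 1)) i
  rw [map_sub, map_smul, map_smul] at h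
  simp only [Pi.sub_apply, Pi.smul_apply, smul_eq_mul] at h
  rw [LinearMap.toMatrix'_mulVec, LinearMap.toMatrix'_mulVec, LinearMap.toMatrix'_apply,
    Pmat_mulVec, Pmat_mulVec, ← polar_eq, ← polar_eq, QuadraticMap.polar_comm Q u m,
    QuadraticMap.polar_comm Q u]
  simp only [LinearEquiv.coe_coe]
  rw [h, Pi.single_apply]

end overR

section localkf
variable {S : Type*} [CommRing S] {n : ℕ}

theorem mulVec_succAbove' (P : Matrix (Fin (n + 1)) (Fin (n + 1)) S) (k : Fin (n + 1))
    (y : Fin (n + 1) → S) (hyk : y k = 0) (a : Fin n) :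
    (P *ᵥ y) (k.succAbove a) = ((P.submatrix k.succAbove k.succAbove) *ᵥ (y ∘ k.succAbove)) a := by
  simp only [mulVec, dotProduct, submatrix_apply, Function.comp_apply]
  rw [Fin.sum_univ_succAbove _ k, hyk, mul_zero, zero_add]

/-- if `P` is invertible, dual vectors exist (any `k`) -/
theorem exists_f_of_isUnit_det (P : Matrix (Fin n) (Fin n) S) (hP : IsUnit P.det) (k : Fin n) :
    ∃ f : Fin n → Fin n → S,
      ∀ a, a ≠ k → ∀ i, i ≠ k → (P *ᵥ f a) i = if i = a then 1 else 0 := by
  refine ⟨fun a => P⁻¹ *ᵥ Pi.single a 1, fun a _ i _ => ?_⟩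
  rw [Matrix.mulVec_mulVec, Matrix.mul_nonsing_inv P hP, Matrix.one_mulVec, Pi.single_apply]

/-- if the principal minor at `k` is invertible, dual vectors exist -/
theorem exists_f_of_isUnit_minor (P : Matrix (Fin (n + 1)) (Fin (n + 1)) S) (k : Fin (n + 1))
    (hD : IsUnit (P.submatrix k.succAbove k.succAbove).det) :
    ∃ f : Fin (n + 1) → Fin (n + 1) → S,
      ∀ a, a ≠ k → ∀ i, i ≠ k → (P *ᵥ f a) i = if i = a then 1 else 0 := by
  have hex : ∀ a : Fin (n + 1), ∃ v : Fin (n + 1) → S,
      a ≠ k → ∀ i, i ≠ k → (P *ᵥ v) i = if i = a then 1 else 0 := by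
    intro a
    by_cases hak : a = k
    · exact ⟨0, fun h => absurd hak h⟩
    · obtain ⟨a', rfl⟩ := Fin.exists_succAbove_eq hak
      set P'' := P.submatrix k.succAbove k.succAbove with hP''
      refine ⟨k.insertNth 0 (P''⁻¹ *ᵥ Pi.single a' 1), fun _ i hik => ?_⟩
      obtain ⟨i', rfl⟩ := Fin.exists_succAbove_eq hik
      rw [mulVec_succAbove' P k _ (by simp) i']
      have : ((k.insertNth (0 : S) (P''⁻¹ *ᵥ Pi.single a' 1) : Fin (n + 1) → S) ∘ k.succAbove) =
          P''⁻¹ *ᵥ Pi.single a' 1 := by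
        funext c; simp
      rw [this, Matrix.mulVec_mulVec, Matrix.mul_nonsing_inv P'' hD, Matrix.one_mulVec,
        Pi.single_apply]
      simp only [Fin.succAbove_right_inj]
  choose f hf using hex
  exact ⟨f, hf⟩

theorem exists_kf_local [IsLocalRing S] (hn : Odd (n + 1))
    (T : Matrix (Fin (n + 1)) (Fin (n + 1)) S) (hT : IsUnit (hd T)) :
    ∃ (k : Fin (n + 1)) (f : Fin (n + 1) → Fin (n + 1) → S),
      ∀ a, a ≠ k → ∀ i, i ≠ k → ((T + Tᵀ) *ᵥ f a) i = if i = a then 1 else 0 := by
  by_cases h2 : IsUnit (2 : S)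
  · have hdet : IsUnit (T + Tᵀ).det := by
      rw [← two_mul_hd hn]; exact h2.mul hT
    obtain ⟨f, hf⟩ := exists_f_of_isUnit_det (T + Tᵀ) hdet 0
    exact ⟨0, f, hf⟩
  · let π := IsLocalRing.residue S
    have hπ2 : π 2 = 0 := by
      by_contra h
      exact h2 ((IsLocalRing.residue_ne_zero_iff_isUnit 2).mp h)
    set Tb := π.mapMatrix T with hTb
    have hhd : hd Tb ≠ 0 := by
      rw [hTb, hd_map]
      exact (hT.map π).ne_zero
    have hdet0 : (Tb + Tbᵀ).det = 0 := by
      rw [← two_mul_hd hn]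
      have : (2 : IsLocalRing.ResidueField S) = π 2 := (map_ofNat π 2).symm
      rw [this, hπ2, zero_mul]
    obtain ⟨x, hx0, hx⟩ := exists_mulVec_eq_zero_iff.mpr hdet0
    obtain ⟨k, hk⟩ := Function.ne_iff.mp hx0
    have hk' : x k ≠ 0 := hk
    have hker := hd_ker hn Tb x hx k
    have hDb : ((Tb + Tbᵀ).submatrix k.succAbove k.succAbove).det ≠ 0 := by
      intro h0
      rw [h0, mul_zero] at hker
      rcases mul_eq_zero.mp hker with h | h
      · exact hhd h
      · exact hk' (pow_eq_zero_iff two_ne_zero |>.mp h)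
    have hD : IsUnit ((T + Tᵀ).submatrix k.succAbove k.succAbove).det := by
      rw [← IsLocalRing.residue_ne_zero_iff_isUnit]
      have e : π ((T + Tᵀ).submatrix k.succAbove k.succAbove).det =
          ((Tb + Tbᵀ).submatrix k.succAbove k.succAbove).det := by
        rw [RingHom.map_det]
        congr 1
      rw [show IsLocalRing.residue S = π from rfl, e]
      exact hDb
    obtain ⟨f, hf⟩ := exists_f_of_isUnit_minor (T + Tᵀ) k hD
    exact ⟨k, f, hf⟩

end localkf

section global
variable {R : Type*} [CommRing R] {n : ℕ}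

theorem scalar_of_regular (hn : 3 ≤ n) (Q : QuadraticForm R (Fin n → R)) (hQ : IsRegular Q)
    (G : Matrix (Fin n) (Fin n) R) (hG : SVE G (Pmat Q)) :
    ∃ c : R, G = c • (1 : Matrix (Fin n) (Fin n) R) := by
  have hex : ∀ a : Fin n, ∃ v : Fin n → R, QuadraticMap.polarBilin Q v = LinearMap.proj a :=
    fun a => hQ.2 _
  choose f hf using hex
  refine scalar_of_SV hn G (Pmat Q) (SV_of_SVE hG) ⟨0, by omega⟩ f (fun a _ i _ => ?_)
  rw [Pmat_mulVec, ← QuadraticMap.polarBilin_apply_apply, hf a, LinearMap.proj_apply,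
    Pi.single_apply]
  simp [eq_comm]

theorem exists_T (Q : QuadraticForm R (Fin n → R)) :
    ∃ T : Matrix (Fin n) (Fin n) R, T + Tᵀ = Pmat Q ∧
      halfDisc (Pi.basisFun R (Fin n)) (LinearEquiv.refl R R) Q = hd T := by
  obtain ⟨B, hB⟩ := LinearMap.BilinMap.toQuadraticMap_surjective Q
  refine ⟨LinearMap.toMatrix₂ (Pi.basisFun R (Fin n)) (Pi.basisFun R (Fin n)) B, ?_,
    halfDisc_eq_hd _ Q B hB⟩
  refine Matrix.ext fun i j => ?_
  simp only [Matrix.add_apply, transpose_apply, LinearMap.toMatrix₂_apply, Pi.basisFun_apply,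
    Pmat_apply, ← hB, LinearMap.BilinMap.polar_toQuadraticMap]

theorem scalar_of_semiregular (hn : 3 ≤ n) (hodd : Odd n) (Q : QuadraticForm R (Fin n → R))
    (hQ : IsSemiregular (Pi.basisFun R (Fin n)) (LinearEquiv.refl R R) Q)
    (G : Matrix (Fin n) (Fin n) R) (hG : SVE G (Pmat Q)) :
    ∃ c : R, G = c • (1 : Matrix (Fin n) (Fin n) R) := by
  obtain ⟨n', rfl⟩ : ∃ n', n = n' + 1 := ⟨n - 1, by omega⟩
  obtain ⟨T, hTP, hTh⟩ := exists_T Q
  have hunit : IsUnit (hd T) := by rw [← hTh]; exact hQ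
  -- local statement
  have hloc : ∀ (J : Ideal R) (hJ : J.IsMaximal), ∃ lam : Localization.AtPrime J,
      (algebraMap R (Localization.AtPrime J)).mapMatrix G =
        lam • (1 : Matrix (Fin (n' + 1)) (Fin (n' + 1)) (Localization.AtPrime J)) := by
    intro J hJ
    set φ := algebraMap R (Localization.AtPrime J) with hφ
    have h1 : IsUnit (hd (φ.mapMatrix T)) := by
      rw [hd_map]; exact hunit.map φ
    obtain ⟨k, f, hf⟩ := exists_kf_local hodd (φ.mapMatrix T) h1
    have hP : φ.mapMatrix T + (φ.mapMatrix T)ᵀ = φ.mapMatrix (Pmat Q) := by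
      rw [← hTP, map_add]
      congr 1
    rw [hP] at hf
    exact scalar_of_SV hn _ _ (SV_of_SVE (SVE_map φ hG)) k f hf
  refine ⟨G 0 0, ?_⟩
  refine Matrix.ext fun i j => ?_
  rw [Matrix.smul_apply, Matrix.one_apply, smul_eq_mul]
  by_cases hij : i = j
  · subst hij
    rw [if_pos rfl, mul_one, ← sub_eq_zero]
    apply eq_zero_of_localization
    intro J hJ
    obtain ⟨lam, hlam⟩ := hloc J hJ
    have e1 := congrFun (congrFun hlam i) i
    have e2 := congrFun (congrFun hlam 0) 0
    simp only [RingHom.mapMatrix_apply, Matrix.map_apply, Matrix.smul_apply, Matrix.one_apply_eq,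
      smul_eq_mul, mul_one] at e1 e2
    rw [map_sub, e1, e2, sub_self]
  · rw [if_neg hij, mul_zero]
    apply eq_zero_of_localization
    intro J hJ
    obtain ⟨lam, hlam⟩ := hloc J hJ
    have e1 := congrFun (congrFun hlam i) j
    simp only [RingHom.mapMatrix_apply, Matrix.map_apply, Matrix.smul_apply,
      Matrix.one_apply_ne hij, smul_eq_mul, mul_zero] at e1
    exact e1

theorem scalar_of_nondeg (hn : 3 ≤ n) (Q : QuadraticForm R (Fin n → R))
    (hQ : IsNondeg (Pi.basisFun R (Fin n)) (LinearEquiv.refl R R) Q)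
    (G : Matrix (Fin n) (Fin n) R) (hG : SVE G (Pmat Q)) :
    ∃ c : R, G = c • (1 : Matrix (Fin n) (Fin n) R) := by
  rcases Nat.even_or_odd n with he | ho
  · exact scalar_of_regular hn Q (hQ.1 he) G hG
  · exact scalar_of_semiregular hn ho Q (hQ.2 ho) G hG

end global

section sqone
variable {R : Type*} [CommRing R] {n : ℕ}

theorem constantCoeff_halfDiscUniv (hn : 1 ≤ n) :
    MvPolynomial.constantCoeff (halfDiscUniv n) = 0 := by
  have : Nonempty (Fin n) := ⟨⟨0, by omega⟩⟩
  rw [MvPolynomial.constantCoeff_eq, coeff_halfDiscUniv, ← MvPolynomial.constantCoeff_eq, discUniv,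
    RingHom.map_det]
  have : (MvPolynomial.constantCoeff (R := ℤ) (σ := Sym2 (Fin n))).mapMatrix (univPolarMat n) = 0 := by
    refine Matrix.ext fun i j => ?_
    simp only [RingHom.mapMatrix_apply, Matrix.map_apply, univPolarMat, of_apply, Matrix.zero_apply]
    split_ifs <;> simp
  rw [this, Matrix.det_zero]
  rfl

theorem mul_eval₂_eq {σ : Type*} (z : R) (c : σ → R) (hz : ∀ s, z * c s = 0)
    (F : MvPolynomial σ ℤ) :
    z * MvPolynomial.eval₂ (Int.castRingHom R) c F = z * ((MvPolynomial.constantCoeff F : ℤ) : R) := by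
  induction F using MvPolynomial.induction_on with
  | C a => rw [MvPolynomial.eval₂_C, MvPolynomial.constantCoeff_C]; simp
  | add p q hp hq =>
    rw [MvPolynomial.eval₂_add, mul_add, hp, hq, map_add, Int.cast_add, mul_add]
  | mul_X p s _ =>
    rw [MvPolynomial.eval₂_mul, MvPolynomial.eval₂_X, mul_left_comm, hz s, mul_zero, map_mul,
      MvPolynomial.constantCoeff_X, mul_zero, Int.cast_zero, mul_zero]

theorem sq_eq_one_of_isometry (hn : 1 ≤ n) (Q : QuadraticForm R (Fin n → R))
    (hQ : IsNondeg (Pi.basisFun R (Fin n)) (LinearEquiv.refl R R) Q) (c : R)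
    (hc : ∀ v, Q (c • v) = Q v) : c * c = 1 := by
  have hz : ∀ v, (c * c - 1) * Q v = 0 := by
    intro v
    have := hc v
    rw [QuadraticMap.map_smul, smul_eq_mul] at this
    linear_combination this
  have hzp : ∀ x y, (c * c - 1) * QuadraticMap.polar Q x y = 0 := by
    intro x y
    rw [QuadraticMap.polar]
    linear_combination hz (x + y) - hz x - hz y
  rcases Nat.even_or_odd n with he | ho
  · obtain ⟨v, hv⟩ := (hQ.1 he).2 (LinearMap.proj (⟨0, by omega⟩ : Fin n))
    have h1 : QuadraticMap.polar Q v (Pi.single (⟨0, by omega⟩ : Fin n) 1) = 1 := by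
      rw [← QuadraticMap.polarBilin_apply_apply, hv, LinearMap.proj_apply, Pi.single_eq_same]
    have := hzp v (Pi.single (⟨0, by omega⟩ : Fin n) 1)
    rw [h1, mul_one] at this
    exact sub_eq_zero.mp this
  · have hu : IsUnit (halfDisc (Pi.basisFun R (Fin n)) (LinearEquiv.refl R R) Q) := hQ.2 ho
    have hzc : ∀ s, (c * c - 1) * coeffs (Pi.basisFun R (Fin n)) (LinearEquiv.refl R R) Q s = 0 := by
      intro s
      induction s using Sym2.ind with
      | _ i j =>
        rw [coeffs_mk]
        split_ifs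
        · exact hz _
        · exact hzp _ _
    have := mul_eval₂_eq (c * c - 1) _ hzc (halfDiscUniv n)
    rw [constantCoeff_halfDiscUniv hn, Int.cast_zero, mul_zero] at this
    have h0 : c * c - 1 = 0 := by
      have h' : (c * c - 1) * halfDisc (Pi.basisFun R (Fin n)) (LinearEquiv.refl R R) Q = 0 := this
      exact (hu.mul_left_eq_zero).mp h'
    exact sub_eq_zero.mp h0

end sqone

section commute
variable {R : Type*} [CommRing R] {M : Type*} [AddCommGroup M] [Module R M]
variable {A : Type*} [CommRing A] [Algebra R A]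

theorem baseChange_scalar (g : M ≃ₗ[R] M) (c : R) (hg : ∀ v, g v = c • v)
    (y : A ⊗[R] M) : g.baseChange R A M M y = c • y := by
  induction y using TensorProduct.induction_on with
  | zero => simp
  | tmul a v => rw [LinearEquiv.baseChange_tmul, hg, TensorProduct.tmul_smul]
  | add x y hx hy => rw [map_add, hx, hy, smul_add]

theorem commute_of_scalar (g : M ≃ₗ[R] M) (c : R) (hg : ∀ v, g v = c • v)
    (h : (A ⊗[R] M) ≃ₗ[A] (A ⊗[R] M)) :
    g.baseChange R A M M * h = h * g.baseChange R A M M := by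
  ext y
  rw [LinearEquiv.mul_apply, LinearEquiv.mul_apply, baseChange_scalar g c hg, baseChange_scalar g c hg]
  exact (LinearMap.map_smul_of_tower h.toLinearMap c y).symm

end commute

section final
variable {R : Type*} [CommRing R] {n : ℕ}

/-- the forward direction: commuting with the infinitesimal isometries `hUW` forces `g` scalar -/
theorem scalar_of_commute_hUW (hn : 3 ≤ n) (Q : QuadraticForm R (Fin n → R))
    (hQ : IsNondeg (Pi.basisFun R (Fin n)) (LinearEquiv.refl R R) Q)
    (g : (Fin n → R) ≃ₗ[R] (Fin n → R)) (hg : g ∈ O Q)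
    (H : ∀ u w : Fin n → R, g.baseChange R (DualNumber R) (Fin n → R) (Fin n → R) * hUW Q u w =
      hUW Q u w * g.baseChange R (DualNumber R) (Fin n → R) (Fin n → R)) :
    ∃ c : R, c * c = 1 ∧ ∀ v, g v = c • v := by
  have hI : ∀ m u w : Fin n → R,
      g (QuadraticMap.polar Q m u • w - QuadraticMap.polar Q m w • u) =
      QuadraticMap.polar Q (g m) u • w - QuadraticMap.polar Q (g m) w • u :=
    fun m u w => comm_of_comm Q u w g (H u w) m
  have hSVE := SVE_of_SV (SV_of_comm Q g hI)
  obtain ⟨c, hc⟩ := scalar_of_nondeg hn Q hQ _ hSVE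
  have hgv : ∀ v, g v = c • v := by
    intro v
    have := LinearMap.toMatrix'_mulVec (g : (Fin n → R) →ₗ[R] (Fin n → R)) v
    rw [hc, Matrix.smul_mulVec, Matrix.one_mulVec] at this
    exact this.symm
  refine ⟨c, sq_eq_one_of_isometry (by omega) Q hQ c (fun v => ?_), hgv⟩
  rw [← hgv]; exact hg v

end final

section dets
variable {A : Type*} [CommRing A] {N : Type*} [AddCommGroup N] [Module A N]
  [Module.Free A N] [Module.Finite A N]

theorem det_infIso (ε : A) (hε : ε * ε = 0) (X : N →ₗ[A] N) (hX : LinearMap.trace A N X = 0) :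
    LinearEquiv.det (infIso ε hε X) = 1 := by
  apply Units.ext
  rw [LinearEquiv.coe_det, Units.val_one]
  have hcoe : ((infIso ε hε X : N ≃ₗ[A] N) : N →ₗ[A] N) = LinearMap.id + ε • X := rfl
  rw [hcoe]
  let b := Module.Free.chooseBasis A N
  rw [← LinearMap.det_toMatrix b, map_add, map_smul, LinearMap.toMatrix_id, Matrix.det_one_add_smul,
    ← LinearMap.trace_eq_matrix_trace A b X, hX, pow_two, hε]
  simp

theorem trace_Xuw (Qa : QuadraticForm A N) (u w : N) : LinearMap.trace A N (Xuw Qa u w) = 0 := by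
  rw [Xuw, map_sub, LinearMap.trace_smulRight, LinearMap.trace_smulRight]
  simp only [LinearMap.flip_apply, QuadraticMap.polarBilin_apply_apply]
  rw [QuadraticMap.polar_comm, sub_self]

end dets

section dualdet
variable {R : Type*} [CommRing R] {n : ℕ}

theorem hUW_mem_sorth' (Q : QuadraticForm R (Fin n → R)) (u w : Fin n → R) :
    hUW Q u w ∈ sorth' Q (DualNumber R) := by
  refine ⟨hUW_mem_orth Q u w, ?_⟩
  show hUW Q u w ∈ (LinearEquiv.det (R := DualNumber R) (M := DualNumber R ⊗[R] (Fin n → R))).ker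
  rw [MonoidHom.mem_ker]
  exact det_infIso _ _ _ (trace_Xuw _ _ _)

end dualdet

section dickson
variable {A : Type*} [CommRing A] {N : Type*} [AddCommGroup N] [Module A N] (Qa : QuadraticForm A N)
open CliffordAlgebra

theorem ι_Xuw (u w y : N) :
    ι Qa (Xuw Qa u w y) = ι Qa y * (ι Qa u * ι Qa w) - ι Qa u * ι Qa w * ι Qa y := by
  have h1 := ι_mul_ι_add_swap (Q := Qa) w y
  have h2 := ι_mul_ι_add_swap (Q := Qa) u y
  have e : ι Qa y * (ι Qa u * ι Qa w) - ι Qa u * ι Qa w * ι Qa y =
      (ι Qa u * ι Qa y + ι Qa y * ι Qa u) * ι Qa w - ι Qa u * (ι Qa w * ι Qa y + ι Qa y * ι Qa w) := by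
    noncomm_ring
  rw [e, h1, h2, Xuw_apply, map_sub, map_smul, map_smul, ← Algebra.commutes, ← Algebra.smul_def,
    ← Algebra.smul_def, QuadraticMap.polar_comm Qa u y, QuadraticMap.polar_comm Qa w y]

theorem map_mul_p (ε : A) (hε : ε * ε = 0) (u w : N)
    (hh : infIso ε hε (Xuw Qa u w) ∈ O Qa) (x : CliffordAlgebra Qa) :
    CliffordAlgebra.map (isometryOfMem Qa _ hh) x * (1 - ε • (ι Qa u * ι Qa w)) =
      (1 - ε • (ι Qa u * ι Qa w)) * x := by
  induction x using CliffordAlgebra.induction with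
  | algebraMap r =>
    rw [AlgHom.commutes]
    exact Algebra.commutes r _
  | ι y =>
    rw [map_apply_ι, isometryOfMem_apply, infIso_apply, map_add, map_smul, ι_Xuw]
    generalize ι Qa u * ι Qa w = c
    generalize ι Qa y = a
    have e : (a + ε • (a * c - c * a)) * (1 - ε • c) =
        a + ε • (a * c - c * a) - ε • (a * c) - (ε * ε) • ((a * c - c * a) * c) := by
      rw [mul_sub, mul_one, add_mul, mul_smul_comm, smul_mul_assoc, mul_smul_comm, smul_smul]
      abel
    rw [e, hε, zero_smul, sub_mul, one_mul, smul_mul_assoc, smul_sub]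
    abel
  | mul a b ha hb =>
    rw [map_mul, mul_assoc, hb, ← mul_assoc, ha, mul_assoc]
  | add a b ha hb =>
    rw [map_add, add_mul, ha, hb, mul_add]

theorem dickson_infIso (ε : A) (hε : ε * ε = 0) (u w : N)
    (hh : infIso ε hε (Xuw Qa u w) ∈ O Qa) :
    IsDicksonTrivial Qa (infIso ε hε (Xuw Qa u w)) hh := by
  intro z hz
  have hpe : (1 - ε • (ι Qa u * ι Qa w)) ∈ CliffordAlgebra.even Qa := by
    refine Subalgebra.sub_mem _ (Subalgebra.one_mem _) (Subalgebra.smul_mem _ ?_ ε)
    exact ι_mul_ι_mem_evenOdd_zero Qa u w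
  have hc := (Subalgebra.mem_center_iff.mp hz) ⟨_, hpe⟩
  have hc' : (1 - ε • (ι Qa u * ι Qa w)) * (z : CliffordAlgebra Qa) =
      (z : CliffordAlgebra Qa) * (1 - ε • (ι Qa u * ι Qa w)) := congrArg Subtype.val hc
  have hm := map_mul_p Qa ε hε u w hh (z : CliffordAlgebra Qa)
  rw [hc'] at hm
  have hunit : (1 - ε • (ι Qa u * ι Qa w)) * (1 + ε • (ι Qa u * ι Qa w)) = 1 := by
    simp only [mul_add, sub_mul, mul_one, one_mul, mul_smul_comm, smul_mul_assoc, smul_sub,
      smul_smul, hε, zero_smul]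
    abel
  have := congrArg (· * (1 + ε • (ι Qa u * ι Qa w))) hm
  simp only [mul_assoc, hunit, mul_one] at this
  exact this

end dickson

section dualSO
variable {R : Type*} [CommRing R] {n : ℕ}

theorem hUW_mem_sorth (Q : QuadraticForm R (Fin n → R)) (u w : Fin n → R) :
    hUW Q u w ∈ sorth Q (DualNumber R) := by
  unfold sorth SO
  split_ifs
  · exact ⟨hUW_mem_O Q u w, dickson_infIso _ _ _ _ _ _⟩
  · refine ⟨hUW_mem_O Q u w, ?_⟩
    show hUW Q u w ∈ (LinearEquiv.det (R := DualNumber R) (M := DualNumber R ⊗[R] (Fin n → R))).ker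
    rw [MonoidHom.mem_ker]
    exact det_infIso _ _ _ (trace_Xuw _ _ _)

theorem mem_O_of_mem_SO {M : Type*} [AddCommGroup M] [Module R M] (Q : QuadraticForm R M)
    (g : M ≃ₗ[R] M) (hg : g ∈ SO Q) : g ∈ O Q := by
  unfold SO at hg
  split_ifs at hg
  · obtain ⟨h1, _⟩ := hg
    exact h1
  · exact hg.1

end dualSO

end Helper5.OrthCenter
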