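import Mathlib

namespace Helper5.PAlg
open Polynomial

section dims
variable {K : Type*} [Field K] {A : Type*} [DivisionRing A] [Algebra K A] [FiniteDimensional K A]

theorem finrank_dvd_of_le (S T : Subalgebra K A) (h : S ≤ T) :
    Module.finrank K S ∣ Module.finrank K T := by
  let _ : DivisionRing S := divisionRingOfFiniteDimensional K S
  let N : Submodule S A :=
    { carrier := T
      add_mem' := fun ha hb => T.add_mem ha hb
      zero_mem' := T.zero_mem
      smul_mem' := fun s x hx => T.mul_mem (h s.2) hx }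
  have h1 := Module.finrank_mul_finrank K S N
  have e : N ≃ₗ[K] T :=
    { toFun := fun x => ⟨x.1, x.2⟩
      invFun := fun x => ⟨x.1, x.2⟩
      map_add' := fun _ _ => rfl
      map_smul' := fun _ _ => rfl
      left_inv := fun _ => rfl
      right_inv := fun _ => rfl }
  rw [← e.finrank_eq, ← h1]
  exact dvd_mul_right _ _

theorem finrank_top_eq : Module.finrank K (⊤ : Subalgebra K A) = Module.finrank K A :=
  (Subalgebra.topEquiv (R := K) (A := A)).toLinearEquiv.finrank_eq

theorem eq_of_le_of_finrank_eq {S T : Subalgebra K A} (h : S ≤ T)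
    (he : Module.finrank K S = Module.finrank K T) : S = T := by
  apply Subalgebra.toSubmodule_injective
  exact Submodule.eq_of_le_of_finrank_eq h he

theorem adjoin_singleton_commute (x y : A) (hy : y ∈ Algebra.adjoin K {x}) : x * y = y * x := by
  have hle : Algebra.adjoin K {x} ≤ Subalgebra.centralizer K {x} := by
    apply Algebra.adjoin_le
    intro z hz
    rw [Set.mem_singleton_iff] at hz
    subst hz
    rw [SetLike.mem_coe, Subalgebra.mem_centralizer_iff]
    intro g hg
    rw [Set.mem_singleton_iff] at hg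
    rw [hg]
  have := (Subalgebra.mem_centralizer_iff K).mp (hle hy) x (Set.mem_singleton x)
  exact this

variable [Algebra.IsCentral K A] {p : ℕ} [hp : Fact p.Prime]

theorem finrank_cases (hA : Module.finrank K A = p ^ 2) (S : Subalgebra K A) :
    Module.finrank K S = 1 ∨ Module.finrank K S = p ∨ Module.finrank K S = p ^ 2 := by
  have h := finrank_dvd_of_le S ⊤ le_top
  rw [finrank_top_eq, hA] at h
  obtain ⟨k, hk, hkeq⟩ := (Nat.dvd_prime_pow hp.out).mp h
  interval_cases k
  · left; simpa using hkeq
  · right; left; simpa using hkeq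
  · right; right; exact hkeq

theorem mem_range_of_forall_commute (z : A) (hz : ∀ x : A, x * z = z * x) :
    z ∈ (algebraMap K A).range := by
  have h1 : z ∈ Subalgebra.center K A := Subalgebra.mem_center_iff.mpr hz
  obtain ⟨a, ha⟩ := (Algebra.IsCentral.mem_center_iff K).mp h1
  exact ⟨a, ha.symm⟩

theorem adjoin_pair_eq_top (hA : Module.finrank K A = p ^ 2) (x y : A) (hxy : x * y ≠ y * x) :
    Algebra.adjoin K {x, y} = ⊤ := by
  have hx : x ∈ Algebra.adjoin K {x, y} := Algebra.subset_adjoin (by simp)
  have hy : y ∈ Algebra.adjoin K {x, y} := Algebra.subset_adjoin (by simp)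
  rcases finrank_cases hA (Algebra.adjoin K {x, y}) with h1 | h1 | h1
  · exfalso
    rw [Subalgebra.finrank_eq_one_iff] at h1
    rw [h1] at hx hy
    obtain ⟨a, rfl⟩ := Algebra.mem_bot.mp hx
    exact hxy (Algebra.commutes a y)
  · exfalso
    have hle : Algebra.adjoin K {x} ≤ Algebra.adjoin K {x, y} :=
      Algebra.adjoin_mono (by simp)
    have hd := finrank_dvd_of_le _ _ hle
    rw [h1] at hd
    rcases (Nat.dvd_prime hp.out).mp hd with h2 | h2
    · rw [Subalgebra.finrank_eq_one_iff] at h2
      have hx' : x ∈ Algebra.adjoin K {x} := Algebra.subset_adjoin (by simp)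
      rw [h2] at hx'
      obtain ⟨a, rfl⟩ := Algebra.mem_bot.mp hx'
      exact hxy (Algebra.commutes a y)
    · have heq := eq_of_le_of_finrank_eq hle (h2.trans h1.symm)
      rw [← heq] at hy
      exact hxy (adjoin_singleton_commute x y hy)
  · exact eq_of_le_of_finrank_eq le_top (by rw [finrank_top_eq, hA, h1])

theorem mem_range_of_commute_pair (hA : Module.finrank K A = p ^ 2) (x y z : A)
    (hxy : x * y ≠ y * x) (hzx : x * z = z * x) (hzy : y * z = z * y) :
    z ∈ (algebraMap K A).range := by
  apply mem_range_of_forall_commute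
  have htop := adjoin_pair_eq_top hA x y hxy
  have hle : Algebra.adjoin K {x, y} ≤ Subalgebra.centralizer K {z} := by
    apply Algebra.adjoin_le
    intro w hw
    rw [SetLike.mem_coe, Subalgebra.mem_centralizer_iff]
    intro g hg
    rw [Set.mem_singleton_iff] at hg
    subst hg
    rcases hw with rfl | hw
    · exact hzx.symm
    · rw [Set.mem_singleton_iff] at hw; subst hw; exact hzy.symm
  intro w
  have hw : w ∈ Subalgebra.centralizer K {z} := hle (htop ▸ Algebra.mem_top)
  exact ((Subalgebra.mem_centralizer_iff K).mp hw z (Set.mem_singleton z)).symm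

end dims

section insep
variable {K : Type*} [Field K] {A : Type*} [DivisionRing A] [Algebra K A]
variable {p : ℕ} [hp : Fact p.Prime] [CharP K p]

theorem charP_A (K : Type*) [Field K] (A : Type*) [DivisionRing A] [Algebra K A] (p : ℕ)
    [CharP K p] : CharP A p :=
  charP_of_injective_algebraMap (algebraMap K A).injective p

theorem not_isSeparable_of_pow (u : A) (c : K) (hu : u ^ p = algebraMap K A c)
    (hnot : u ∉ (algebraMap K A).range) : ¬ IsSeparable K u := by
  have : CharP A p := charP_A K A p
  have hc : ∀ b : K, b ^ p ≠ c := by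
    intro b hb
    have h1 : (u - algebraMap K A b) ^ p = 0 := by
      rw [sub_pow_char_of_commute p (Algebra.commutes b u).symm, hu, ← map_pow, hb, sub_self]
    have h2 : u - algebraMap K A b = 0 := pow_eq_zero_iff (hp.out.ne_zero) |>.mp h1
    exact hnot ⟨b, (sub_eq_zero.mp h2).symm⟩
  have hirr : Irreducible (X ^ p - C c : K[X]) := (X_pow_sub_C_irreducible_iff_of_prime hp.out).mpr hc
  have hroot : aeval u (X ^ p - C c : K[X]) = 0 := by
    rw [map_sub, map_pow, aeval_X, aeval_C, hu, sub_self]
  have hmin : (X ^ p - C c : K[X]) = minpoly K u :=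
    minpoly.eq_of_irreducible_of_monic hirr hroot (monic_X_pow_sub_C c hp.out.ne_zero)
  intro hsep
  rw [IsSeparable, ← hmin, separable_def] at hsep
  have hder : derivative (X ^ p - C c : K[X]) = 0 := by
    rw [derivative_sub, derivative_X_pow, derivative_C, sub_zero, CharP.cast_eq_zero K p, map_zero,
      zero_mul]
  rw [hder, isCoprime_zero_right] at hsep
  exact hirr.not_isUnit hsep

end insep

section AS
variable {K : Type*} [Field K] {L : Type*} [Field L] [Algebra K L] [IsGalois K L]
variable {p : ℕ} [hp : Fact p.Prime] [CharP K p]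

theorem exists_artinSchreier (hL : Module.finrank K L = p) :
    ∃ (α : L) (c : K), α ^ p - α = algebraMap K L c ∧ α ∉ (algebraMap K L).range := by
  classical
  have : FiniteDimensional K L := Module.finite_of_finrank_pos (by rw [hL]; exact hp.out.pos)
  have : CharP L p := charP_of_injective_algebraMap (algebraMap K L).injective p
  have hcard : Nat.card Gal(L/K) = p := by rw [IsGalois.card_aut_eq_finrank, hL]
  have : IsCyclic Gal(L/K) := isCyclic_of_prime_card hcard
  obtain ⟨σ, hσ⟩ := IsCyclic.exists_generator (α := Gal(L/K))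
  have hord : orderOf σ = p := by
    rw [orderOf_eq_card_of_forall_mem_zpowers hσ, hcard]
  have hσp : σ ^ p = 1 := by rw [← hord]; exact pow_orderOf_eq_one σ
  -- sums over the group are sums over powers
  have hsum : ∀ f : Gal(L/K) → L, ∑ τ : Gal(L/K), f τ = ∑ i ∈ Finset.range p, f (σ ^ i) := by
    intro f
    have hinj : Set.InjOn (fun i : ℕ => σ ^ i) (Finset.range p : Set ℕ) := by
      have := pow_injOn_Iio_orderOf (x := σ)
      rw [hord] at this
      intro a ha b hb hab
      exact this (by simpa using ha) (by simpa using hb) hab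
    have himg : (Finset.range p).image (fun i : ℕ => σ ^ i) = Finset.univ := by
      apply Finset.eq_univ_of_card
      rw [Finset.card_image_of_injOn hinj, Finset.card_range, ← Nat.card_eq_fintype_card, hcard]
    rw [← himg, Finset.sum_image hinj]
  obtain ⟨β, hβ⟩ := Algebra.trace_surjective K L 1
  have htr : ∑ i ∈ Finset.range p, (σ ^ i) β = 1 := by
    rw [← hsum (fun τ => τ β), ← trace_eq_sum_automorphisms, hβ, map_one]
  set α₀ : L := ∑ i ∈ Finset.range p, (i : L) * (σ ^ i) β with hα₀
  have hσα : σ α₀ = α₀ - 1 := by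
    have e1 : σ α₀ = ∑ i ∈ Finset.range p, ((((i + 1 : ℕ) : L)) * (σ ^ (i + 1)) β - (σ ^ (i + 1)) β) := by
      rw [hα₀, map_sum]
      refine Finset.sum_congr rfl fun i _ => ?_
      rw [map_mul, map_natCast, pow_succ', AlgEquiv.mul_apply]
      push_cast
      ring
    rw [e1, Finset.sum_sub_distrib]
    have e2 : ∑ i ∈ Finset.range p, (((i + 1 : ℕ) : L)) * (σ ^ (i + 1)) β = α₀ := by
      have := Finset.sum_range_succ' (fun i : ℕ => (i : L) * (σ ^ i) β) p
      rw [Finset.sum_range_succ] at this
      simp only [Nat.cast_zero, zero_mul, add_zero, CharP.cast_eq_zero L p] at this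
      rw [← this]
    have e3 : ∑ i ∈ Finset.range p, (σ ^ (i + 1)) β = 1 := by
      have := Finset.sum_range_succ' (fun i : ℕ => (σ ^ i) β) p
      rw [Finset.sum_range_succ, hσp] at this
      simp only [pow_zero] at this
      have h' : ∑ i ∈ Finset.range p, (σ ^ (i + 1)) β = ∑ x ∈ Finset.range p, (σ ^ x) β :=
        (add_right_cancel this).symm
      rw [h', htr]
    rw [e2, e3]
  refine ⟨-α₀, ?_⟩
  have hσ1 : σ (-α₀) = -α₀ + 1 := by rw [map_neg, hσα]; ring
  have hfix : σ ((-α₀) ^ p - (-α₀)) = (-α₀) ^ p - (-α₀) := by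
    rw [map_sub, map_pow, hσ1, add_pow_char, one_pow]; ring
  have hall : ∀ τ : Gal(L/K), τ ((-α₀) ^ p - (-α₀)) = (-α₀) ^ p - (-α₀) := by
    intro τ
    obtain ⟨k, rfl⟩ := Subgroup.mem_zpowers_iff.mp (hσ τ)
    have hfix' : ((-α₀) ^ p - (-α₀)) ∈ (MulAction.fixedBy L σ) := hfix
    have : ∀ n : ℕ, (σ ^ n) ((-α₀) ^ p - (-α₀)) = (-α₀) ^ p - (-α₀) := by
      intro n
      induction n with
      | zero => simp
      | succ n ih => rw [pow_succ, AlgEquiv.mul_apply, hfix, ih]
    rcases Int.eq_nat_or_neg k with ⟨n, rfl | rfl⟩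
    · rw [zpow_natCast]; exact this n
    · rw [zpow_neg, zpow_natCast]
      have h1 := this n
      calc (σ ^ n)⁻¹ ((-α₀) ^ p - (-α₀)) = (σ ^ n)⁻¹ ((σ ^ n) ((-α₀) ^ p - (-α₀))) := by rw [h1]
        _ = _ := by rw [← AlgEquiv.mul_apply, inv_mul_cancel]; rfl
  obtain ⟨c, hc⟩ := (IsGalois.mem_range_algebraMap_iff_fixed _).mpr hall
  refine ⟨c, hc.symm, ?_⟩
  rintro ⟨a, ha⟩
  have := hσ1
  rw [← ha, AlgEquiv.commutes] at this
  exact one_ne_zero (α := L) (by linear_combination -this)

end AS

section eigen
variable {K : Type*} [Field K] {V : Type*} [AddCommGroup V] [Module K V]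

theorem eigen_of_aeval_prod {ι : Type*} (s : Finset ι) (c : ι → K) (D : Module.End K V) :
    ∀ z : V, z ≠ 0 → aeval D (∏ k ∈ s, (X - C (c k))) z = 0 →
      ∃ k ∈ s, ∃ w : V, w ≠ 0 ∧ D w = c k • w := by
  classical
  induction s using Finset.induction_on with
  | empty =>
    intro z hz h
    simp at h
    exact absurd h hz
  | insert k s hk ih =>
    intro z hz h
    rw [Finset.prod_insert hk, map_mul, Module.End.mul_apply] at h
    by_cases hz' : aeval D (∏ k ∈ s, (X - C (c k))) z = 0
    · obtain ⟨j, hj, w, hw, hDw⟩ := ih z hz hz'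
      exact ⟨j, Finset.mem_insert_of_mem hj, w, hw, hDw⟩
    · refine ⟨k, Finset.mem_insert_self k s, _, hz', ?_⟩
      rw [map_sub, aeval_X, aeval_C, LinearMap.sub_apply, sub_eq_zero] at h
      rw [h]
      rfl

end eigen

section fp
variable (K : Type*) [Field K] (p : ℕ) [hp : Fact p.Prime] [CharP K p]

theorem X_pow_sub_X_eq :
    (X ^ p - X : K[X]) =
      X * ∏ k ∈ (Finset.univ : Finset (ZMod p)).erase 0, (X - C ((ZMod.castHom (dvd_refl p) K) k)) := by
  classical
  have h1 : (X ^ p - X : (ZMod p)[X]) = ∏ k : ZMod p, (X - C k) := by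
    have hroots : (X ^ p - X : (ZMod p)[X]).roots = Finset.univ.val := by
      have := FiniteField.roots_X_pow_card_sub_X (ZMod p)
      rwa [ZMod.card] at this
    have hmonic : (X ^ p - X : (ZMod p)[X]).Monic := by
      apply monic_X_pow_sub
      rw [degree_X]
      exact_mod_cast hp.out.one_lt
    have hcard : Multiset.card (X ^ p - X : (ZMod p)[X]).roots = (X ^ p - X : (ZMod p)[X]).natDegree := by
      rw [hroots, FiniteField.X_pow_card_sub_X_natDegree_eq _ hp.out.one_lt]
      simp [ZMod.card]
    have := prod_multiset_X_sub_C_of_monic_of_roots_card_eq hmonic hcard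
    rw [hroots] at this
    rw [← this]
    rfl
  have h2 := congrArg (Polynomial.map (ZMod.castHom (dvd_refl p) K)) h1
  rw [Polynomial.map_sub, Polynomial.map_pow, Polynomial.map_X, Polynomial.map_prod] at h2
  rw [h2, ← Finset.mul_prod_erase Finset.univ _ (Finset.mem_univ (0 : ZMod p))]
  simp only [Polynomial.map_sub, Polynomial.map_X, Polynomial.map_C, map_zero, sub_zero]

end fp

section adop
variable {K : Type*} [Field K] {A : Type*} [DivisionRing A] [Algebra K A]
variable {p : ℕ} [hp : Fact p.Prime] [CharP K p]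

variable (K) in
/-- `ad a` as a `K`-linear endomorphism -/
def ad (a : A) : Module.End K A := LinearMap.mulLeft K a - LinearMap.mulRight K a

theorem ad_apply (a x : A) : ad K a x = a * x - x * a := rfl

theorem mulLeft_pow' (a : A) (n : ℕ) : (LinearMap.mulLeft K a) ^ n = LinearMap.mulLeft K (a ^ n) := by
  induction n with
  | zero => ext x; simp
  | succ n ih =>
    ext x
    rw [pow_succ, ih, Module.End.mul_apply, LinearMap.mulLeft_apply, LinearMap.mulLeft_apply,
      LinearMap.mulLeft_apply, pow_succ, mul_assoc]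

theorem mulRight_pow' (a : A) (n : ℕ) : (LinearMap.mulRight K a) ^ n = LinearMap.mulRight K (a ^ n) := by
  induction n with
  | zero => ext x; simp
  | succ n ih =>
    ext x
    rw [pow_succ, ih, Module.End.mul_apply, LinearMap.mulRight_apply, LinearMap.mulRight_apply,
      LinearMap.mulRight_apply, pow_succ', mul_assoc]

theorem ad_pow_p (a : A) : (ad K a) ^ p = ad K (a ^ p) := by
  have : CharP (Module.End K A) p :=
    charP_of_injective_algebraMap (algebraMap K (Module.End K A)).injective p
  have hcomm : Commute (LinearMap.mulLeft K a) (LinearMap.mulRight K a) := by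
    ext x
    simp [mul_assoc]
  rw [ad, sub_pow_char_of_commute p hcomm, mulLeft_pow', mulRight_pow', ad]

theorem ad_mul (a x y : A) : ad K a (x * y) = ad K a x * y + x * ad K a y := by
  simp only [ad_apply]
  noncomm_ring

theorem ad_pow_eigen (a w : A) (k : K) (hw : ad K a w = k • w) (n : ℕ) :
    ad K a (w ^ n) = ((n : K) * k) • w ^ n := by
  induction n with
  | zero => simp [ad_apply]
  | succ n ih =>
    rw [pow_succ, ad_mul, ih, hw, smul_mul_assoc, mul_smul_comm, ← add_smul]
    push_cast
    ring_nf

theorem exists_eigen (a : A) (c : K) (ha : a ^ p - a = algebraMap K A c) (x : A)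
    (hx : a * x ≠ x * a) : ∃ u : A, u ≠ 0 ∧ a * u - u * a = u := by
  classical
  -- `D ^ p = D`
  have hDp : (ad K a) ^ p = ad K a := by
    rw [ad_pow_p]
    have : a ^ p = a + algebraMap K A c := by rw [← ha]; abel
    ext y
    rw [ad_apply, ad_apply, this, add_mul, mul_add, Algebra.commutes c y]
    abel
  have hz : ad K a x ≠ 0 := by
    rw [ad_apply]; exact sub_ne_zero.mpr hx
  have h0 : aeval (ad K a) (X ^ p - X : K[X]) = 0 := by
    rw [map_sub, map_pow, aeval_X, hDp, sub_self]
  rw [X_pow_sub_X_eq K p, map_mul, aeval_X] at h0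
  have h1 : aeval (ad K a) (∏ k ∈ (Finset.univ : Finset (ZMod p)).erase 0,
      (X - C ((ZMod.castHom (dvd_refl p) K) k))) (ad K a x) = 0 := by
    have := congrArg (fun f : Module.End K A => f x) h0
    simp only [Module.End.mul_apply, LinearMap.zero_apply] at this
    have hcomm : Commute (ad K a) (aeval (ad K a) (∏ k ∈ (Finset.univ : Finset (ZMod p)).erase 0,
      (X - C ((ZMod.castHom (dvd_refl p) K) k)))) := by
      have := (Polynomial.commute_X (∏ k ∈ (Finset.univ : Finset (ZMod p)).erase 0,
        (X - C ((ZMod.castHom (dvd_refl p) K) k)))).map (aeval (ad K a))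
      rwa [aeval_X] at this
    rw [← Module.End.mul_apply, ← hcomm.eq, Module.End.mul_apply]
    exact this
  obtain ⟨k, hk, w, hw0, hw⟩ := eigen_of_aeval_prod _ _ (ad K a) _ hz h1
  have hk0 : k ≠ 0 := (Finset.mem_erase.mp hk).1
  refine ⟨w ^ (k⁻¹ : ZMod p).val, pow_ne_zero _ hw0, ?_⟩
  have := ad_pow_eigen a w _ hw (k⁻¹ : ZMod p).val
  rw [ad_apply] at this
  rw [this]
  have hone : (((k⁻¹ : ZMod p).val : K)) * (ZMod.castHom (dvd_refl p) K) k = 1 := by
    have e1 : (((k⁻¹ : ZMod p).val : K)) = (ZMod.castHom (dvd_refl p) K) (k⁻¹) := by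
      rw [ZMod.castHom_apply, ZMod.natCast_val]
    rw [e1, ← map_mul, inv_mul_cancel₀ hk0, map_one]
  rw [hone, one_smul]

end adop

section main1
variable {K : Type*} [Field K] {p : ℕ} [hp : Fact p.Prime] [CharP K p]
variable {A : Type*} [DivisionRing A] [Algebra K A] [Algebra.IsCentral K A] [FiniteDimensional K A]

theorem mul_pow_shift (a u : A) (h : a * u = u * (a + 1)) (n : ℕ) :
    a * u ^ n = u ^ n * (a + n) := by
  induction n with
  | zero => simp
  | succ n ih =>
    have hn : (n : A) * u = u * (n : A) := (Nat.cast_commute n u).eq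
    rw [pow_succ, ← mul_assoc, ih, mul_assoc, add_mul, h, hn]
    push_cast
    noncomm_ring

/-- from an Artin–Schreier element to an inseparable element -/
theorem exists_insep_of_AS (hA : Module.finrank K A = p ^ 2) (a : A) (c : K)
    (ha : a ^ p - a = algebraMap K A c) (hnot : a ∉ (algebraMap K A).range) :
    ∃ v : A, ¬ IsSeparable K v := by
  have hAp : CharP A p := charP_A K A p
  obtain ⟨x, hx⟩ : ∃ x, a * x ≠ x * a := by
    by_contra h
    push Not at h
    exact hnot (mem_range_of_forall_commute a (fun x => (h x).symm))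
  obtain ⟨u, hu0, hu⟩ := exists_eigen a c ha x hx
  have hau : a * u = u * (a + 1) := by
    rw [mul_add, mul_one]
    exact sub_eq_iff_eq_add'.mp hu
  have hnc : a * u ≠ u * a := by
    intro h
    rw [h, sub_self] at hu
    exact hu0 hu.symm
  have hcomm : a * u ^ p = u ^ p * a := by
    rw [mul_pow_shift a u hau p, CharP.cast_eq_zero A p, add_zero]
  have hup : u ^ p ∈ (algebraMap K A).range :=
    mem_range_of_commute_pair hA a u (u ^ p) hnc hcomm (by rw [← pow_succ', pow_succ])
  obtain ⟨c', hc'⟩ := hup
  refine ⟨u, not_isSeparable_of_pow u c' hc'.symm ?_⟩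
  rintro ⟨b, rfl⟩
  exact hnc (Algebra.commutes b a).symm

end main1

section main2
variable {K : Type*} [Field K] {p : ℕ} [hp : Fact p.Prime] [CharP K p]
variable {A : Type*} [DivisionRing A] [Algebra K A] [Algebra.IsCentral K A] [FiniteDimensional K A]

omit [CharP K p] in
theorem finrank_adjoin_singleton (hA : Module.finrank K A = p ^ 2) (x : A)
    (hx : x ∉ (algebraMap K A).range) : Module.finrank K (Algebra.adjoin K {x}) = p := by
  have hxm : x ∈ Algebra.adjoin K {x} := Algebra.subset_adjoin (Set.mem_singleton x)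
  rcases finrank_cases hA (Algebra.adjoin K {x}) with h | h | h
  · exfalso
    rw [Subalgebra.finrank_eq_one_iff] at h
    rw [h] at hxm
    obtain ⟨a, ha⟩ := Algebra.mem_bot.mp hxm
    exact hx ⟨a, ha⟩
  · exact h
  · exfalso
    have htop : Algebra.adjoin K {x} = ⊤ :=
      eq_of_le_of_finrank_eq le_top (by rw [finrank_top_eq, hA, h])
    apply hx
    apply mem_range_of_forall_commute
    intro y
    exact (adjoin_singleton_commute x y (htop ▸ Algebra.mem_top)).symm

theorem exists_pow_of_not_isSeparable (hA : Module.finrank K A = p ^ 2) (x : A)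
    (hx : ¬ IsSeparable K x) :
    ∃ c : K, x ^ p = algebraMap K A c ∧ x ∉ (algebraMap K A).range := by
  have hxK : x ∉ (algebraMap K A).range := by
    rintro ⟨a, rfl⟩
    exact hx (isSeparable_algebraMap a)
  have hint : IsIntegral K x := Algebra.IsIntegral.isIntegral x
  have hirr : Irreducible (minpoly K x) := minpoly.irreducible hint
  obtain ⟨n, g, hg, hgf⟩ := exists_separable_of_irreducible p hirr hp.out.ne_zero
  -- degree bound
  have hdeg : (minpoly K x).natDegree ≤ p := by
    let E := Algebra.adjoin K {x}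
    let x' : E := ⟨x, Algebra.subset_adjoin (Set.mem_singleton x)⟩
    have h1 : minpoly K x' = minpoly K x :=
      (minpoly.algHom_eq E.val Subtype.val_injective x').symm
    have h2 := minpoly.natDegree_le (A := K) x'
    rw [h1, finrank_adjoin_singleton hA x hxK] at h2
    exact h2
  have hn : n ≠ 0 := by
    rintro rfl
    rw [pow_zero, expand_one] at hgf
    apply hx
    rw [IsSeparable, ← hgf]
    exact hg
  have hgmonic : g.Monic := by
    have := minpoly.monic hint
    rw [← hgf] at this
    exact (monic_expand_iff (pow_pos hp.out.pos n)).mp this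
  have hgdeg : g.natDegree ≠ 0 := by
    intro h0
    have hg1 : g = 1 := eq_one_of_monic_natDegree_zero hgmonic h0
    rw [hg1] at hgf
    simp at hgf
    exact hirr.ne_one hgf.symm |>.elim
  have hdeg2 : g.natDegree * p ^ n ≤ p := by
    rw [← natDegree_expand, hgf]; exact hdeg
  have hpn : p ^ n = p ∧ g.natDegree = 1 := by
    have h1 : p ≤ p ^ n := by
      calc p = p ^ 1 := (pow_one p).symm
        _ ≤ p ^ n := Nat.pow_le_pow_right hp.out.pos (Nat.one_le_iff_ne_zero.mpr hn)
    have h2 : 1 ≤ g.natDegree := Nat.one_le_iff_ne_zero.mpr hgdeg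
    have h3 : g.natDegree * p ^ n ≥ 1 * p ^ n := Nat.mul_le_mul_right _ h2
    have h4 : p ^ n = p := by nlinarith
    refine ⟨h4, ?_⟩
    rw [h4] at hdeg2
    have : g.natDegree ≤ 1 := by
      by_contra hlt
      push Not at hlt
      have := Nat.mul_le_mul_right p hlt
      have hp2 := hp.out.two_le
      nlinarith
    omega
  obtain ⟨hpn1, hg1⟩ := hpn
  -- g = X + C b
  have hgform : g = X + C (g.coeff 0) := by
    have := hgmonic.as_sum
    rw [hg1] at this
    simpa [Finset.sum_range_one] using this
  have hroot : aeval x (minpoly K x) = 0 := minpoly.aeval K x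
  rw [← hgf, hpn1, hgform] at hroot
  simp only [map_add, expand_X, expand_C, map_pow, aeval_X, aeval_C] at hroot
  refine ⟨- g.coeff 0, ?_, hxK⟩
  rw [map_neg]
  exact eq_neg_of_add_eq_zero_left hroot

end main2

section main3
variable {K : Type*} [Field K] {p : ℕ} [hp : Fact p.Prime] [CharP K p]
variable {A : Type*} [DivisionRing A] [Algebra K A] [Algebra.IsCentral K A] [FiniteDimensional K A]

omit hp [CharP K p] [Algebra.IsCentral K A] [FiniteDimensional K A] [Algebra K A] in
theorem weyl_pow (v u : A) (h : v * u - u * v = 1) (n : ℕ) :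
    v * u ^ (n + 1) - u ^ (n + 1) * v = ((n + 1 : ℕ) : A) * u ^ n := by
  induction n with
  | zero => simpa using h
  | succ n ih =>
    have e : v * u ^ (n + 1 + 1) - u ^ (n + 1 + 1) * v
        = (v * u ^ (n + 1) - u ^ (n + 1) * v) * u + u ^ (n + 1) * (v * u - u * v) := by
      rw [pow_succ u (n + 1)]
      noncomm_ring
    rw [e, ih, h, mul_one, mul_assoc, ← pow_succ]
    push_cast
    noncomm_ring

theorem exists_weyl_pair (hA : Module.finrank K A = p ^ 2) (v : A) (c : K)
    (hvp : v ^ p = algebraMap K A c) (hvK : v ∉ (algebraMap K A).range) :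
    ∃ u : A, u ^ p ∈ (algebraMap K A).range ∧ v * u - u * v = 1 ∧
      Algebra.adjoin K {v, u} = ⊤ := by
  classical
  have hAp : CharP A p := charP_A K A p
  have hDp : (ad K v) ^ p = 0 := by
    rw [ad_pow_p, hvp]
    ext y
    rw [ad_apply, Algebra.commutes c y, sub_self, LinearMap.zero_apply]
  have hD : ad K v ≠ 0 := by
    intro h0
    apply hvK
    apply mem_range_of_forall_commute
    intro y
    have := congrArg (fun f : Module.End K A => f y) h0
    simp only [ad_apply, LinearMap.zero_apply] at this
    exact (sub_eq_zero.mp this).symm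
  have hex : ∃ m, (ad K v) ^ m = 0 := ⟨p, hDp⟩
  obtain ⟨k, hk⟩ : ∃ k, Nat.find hex = k + 2 := by
    have h0 : Nat.find hex ≠ 0 := by
      intro h
      have := Nat.find_spec hex
      rw [h, pow_zero] at this
      exact one_ne_zero this
    have h1 : Nat.find hex ≠ 1 := by
      intro h
      have := Nat.find_spec hex
      rw [h, pow_one] at this
      exact hD this
    exact ⟨Nat.find hex - 2, by omega⟩
  have hk1 : (ad K v) ^ (k + 1) ≠ 0 := Nat.find_min hex (by omega)
  have hk2 : (ad K v) ^ (k + 2) = 0 := hk ▸ Nat.find_spec hex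
  obtain ⟨w, hw⟩ : ∃ w, ((ad K v) ^ (k + 1)) w ≠ 0 := by
    by_contra h
    push Not at h
    exact hk1 (LinearMap.ext h)
  set w' := ((ad K v) ^ k) w with hw'
  set z := ad K v w' with hz
  have hz0 : z ≠ 0 := by
    rw [hz, hw', ← Module.End.mul_apply, ← pow_succ']
    exact hw
  have hDz : ad K v z = 0 := by
    have e : ((ad K v) ^ (k + 2)) w = ad K v (ad K v (((ad K v) ^ k) w)) := by
      rw [pow_succ', pow_succ', Module.End.mul_apply, Module.End.mul_apply]
    rw [hz, hw', ← e, hk2, LinearMap.zero_apply]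
  have hvz : v * z = z * v := by
    rw [ad_apply] at hDz
    exact sub_eq_zero.mp hDz
  have hvzi : v * z⁻¹ = z⁻¹ * v := by
    calc v * z⁻¹ = z⁻¹ * z * v * z⁻¹ := by rw [inv_mul_cancel₀ hz0, one_mul]
      _ = z⁻¹ * (z * v) * z⁻¹ := by rw [mul_assoc z⁻¹ z v]
      _ = z⁻¹ * (v * z) * z⁻¹ := by rw [hvz]
      _ = z⁻¹ * v * (z * z⁻¹) := by simp only [mul_assoc]
      _ = z⁻¹ * v := by rw [mul_inv_cancel₀ hz0, mul_one]
  have hvu : v * (w' * z⁻¹) - (w' * z⁻¹) * v = 1 := by
    have e : v * (w' * z⁻¹) - (w' * z⁻¹) * v = (v * w' - w' * v) * z⁻¹ := by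
      rw [mul_assoc w', ← hvzi]
      noncomm_ring
    rw [e, ← ad_apply (K := K), ← hz, mul_inv_cancel₀ hz0]
  have hnc : v * (w' * z⁻¹) ≠ (w' * z⁻¹) * v := by
    intro h
    rw [h, sub_self] at hvu
    exact zero_ne_one hvu
  refine ⟨w' * z⁻¹, ?_, hvu, adjoin_pair_eq_top hA v _ hnc⟩
  have hcomm : v * (w' * z⁻¹) ^ p = (w' * z⁻¹) ^ p * v := by
    have h1 := weyl_pow v (w' * z⁻¹) hvu (p - 1)
    have hp1 : p - 1 + 1 = p := Nat.sub_add_cancel hp.out.one_le
    rw [hp1, CharP.cast_eq_zero A p, zero_mul] at h1
    exact sub_eq_zero.mp h1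
  exact mem_range_of_commute_pair hA v (w' * z⁻¹) _ hnc hcomm (by rw [← pow_succ', pow_succ])

end main3

section galois
variable {K : Type*} [Field K] {A : Type*} [DivisionRing A] [Algebra K A] [FiniteDimensional K A]

open scoped IsMulCommutative in
/-- field structure on `K[a]` -/
@[reducible] noncomputable def adjoinField (a : A) : Field (Algebra.adjoin K {a}) :=
  fieldOfFiniteDimensional K (Algebra.adjoin K {a})

variable {p : ℕ} [hp : Fact p.Prime] [CharP K p]

theorem splits_AS {E : Type*} [Field E] [CharP E p] (a : E) :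
    (X ^ p - X - C (a ^ p - a) : E[X]).Splits := by
  have hEp : CharP E[X] p := inferInstance
  have h1 : (X ^ p - X : E[X]).Splits := by
    rw [X_pow_sub_X_eq E p]
    exact Splits.X.mul (Splits.prod fun k _ => Splits.X_sub_C _)
  have h2 := h1.comp_X_sub_C a
  have e : (X ^ p - X : E[X]).comp (X - C a) = X ^ p - X - C (a ^ p - a) := by
    rw [sub_comp, pow_comp, X_comp, sub_pow_char, ← C_pow, C_sub]
    ring
  rwa [e] at h2

theorem isGalois_adjoin (a : A) (c : K) (ha : a ^ p - a = algebraMap K A c) :
    letI := adjoinField (K := K) a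
    IsGalois K (Algebra.adjoin K {a}) := by
  let _ := adjoinField (K := K) a
  have hEp : CharP (Algebra.adjoin K {a}) p :=
    charP_of_injective_algebraMap (algebraMap K (Algebra.adjoin K {a})).injective p
  set a' : Algebra.adjoin K {a} := ⟨a, Algebra.subset_adjoin (Set.mem_singleton a)⟩ with ha'
  have haE : a' ^ p - a' = algebraMap K (Algebra.adjoin K {a}) c := by
    apply Subtype.ext
    simpa using ha
  have hsep : (X ^ p - X - C c : K[X]).Separable := by
    rw [separable_def]
    have hd : derivative (X ^ p - X - C c : K[X]) = -1 := by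
      rw [derivative_sub, derivative_sub, derivative_X_pow, derivative_C, derivative_X, sub_zero,
        CharP.cast_eq_zero K p, map_zero, zero_mul, zero_sub]
    rw [hd]
    exact isCoprime_one_right.neg_right
  have hmap : (X ^ p - X - C c : K[X]).map (algebraMap K (Algebra.adjoin K {a}))
      = X ^ p - X - C (a' ^ p - a') := by
    rw [haE]
    simp
  have hne : (X ^ p - X - C c : K[X]) ≠ 0 := hsep.ne_zero
  have : (X ^ p - X - C c : K[X]).IsSplittingField K (Algebra.adjoin K {a}) := by
    refine ⟨?_, ?_⟩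
    · rw [hmap]
      exact splits_AS a'
    · have hmem : a' ∈ (X ^ p - X - C c : K[X]).rootSet (Algebra.adjoin K {a}) := by
        rw [mem_rootSet]
        refine ⟨hne, ?_⟩
        rw [aeval_def, eval₂_eq_eval_map, hmap]
        simp
      have h1 : Algebra.adjoin K {a'} ≤
          Algebra.adjoin K ((X ^ p - X - C c : K[X]).rootSet (Algebra.adjoin K {a})) :=
        Algebra.adjoin_mono (Set.singleton_subset_iff.mpr hmem)
      have h2 : Algebra.adjoin K {a'} = ⊤ := by
        have := Algebra.adjoin_adjoin_coe_preimage (R := K) (s := ({a} : Set A))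
        convert this using 2
        ext y
        simp [ha', Subtype.ext_iff]
      rw [h2] at h1
      exact top_le_iff.mp h1
  exact IsGalois.of_separable_splitting_field hsep

end galois

section main4
variable {K : Type*} [Field K] {p : ℕ} [hp : Fact p.Prime] [CharP K p]
variable {A : Type*} [DivisionRing A] [Algebra K A] [Algebra.IsCentral K A] [FiniteDimensional K A]

theorem exists_AS_of_weyl (hA : Module.finrank K A = p ^ 2) (v u : A) (hvu : v * u - u * v = 1) :
    ∃ (a : A) (c : K), a ^ p - a = algebraMap K A c ∧ a ∉ (algebraMap K A).range := by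
  have hAp : CharP A p := charP_A K A p
  have hvu' : v * u = u * v + 1 := sub_eq_iff_eq_add'.mp hvu
  have hnc : v * u ≠ u * v := by
    intro h
    rw [h, sub_self] at hvu
    exact zero_ne_one hvu
  have hau : (u * v) * u = u * (u * v + 1) := by rw [mul_assoc, hvu']
  have hva : v * (u * v) = (u * v + 1) * v := by rw [← mul_assoc, hvu']
  have h1 : ∀ n : ℕ, (u * v) ^ n * u = u * (u * v + 1) ^ n := by
    intro n
    induction n with
    | zero => simp
    | succ n ih => rw [pow_succ, mul_assoc, hau, ← mul_assoc, ih, mul_assoc, ← pow_succ]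
  have h2 : ∀ n : ℕ, v * (u * v) ^ n = (u * v + 1) ^ n * v := by
    intro n
    induction n with
    | zero => simp
    | succ n ih => rw [pow_succ, ← mul_assoc, ih, mul_assoc, hva, ← mul_assoc, ← pow_succ]
  have hpow : (u * v + 1) ^ p = (u * v) ^ p + 1 := by
    rw [add_pow_char_of_commute p (Commute.one_right _), one_pow]
  have hcu : u * ((u * v) ^ p - u * v) = ((u * v) ^ p - u * v) * u := by
    rw [sub_mul, h1 p, hau, hpow]
    noncomm_ring
  have hcv : v * ((u * v) ^ p - u * v) = ((u * v) ^ p - u * v) * v := by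
    rw [mul_sub, h2 p, hva, hpow]
    noncomm_ring
  obtain ⟨c, hc⟩ := mem_range_of_commute_pair hA v u _ hnc hcv hcu
  refine ⟨u * v, c, hc.symm, ?_⟩
  rintro ⟨b, hb⟩
  have : (u * v) * u = u * (u * v) := by rw [← hb]; exact Algebra.commutes b u
  rw [hau, mul_add, mul_one] at this
  have hu0 : u = 0 := by simpa using this
  rw [hu0] at hvu
  simp at hvu

end main4

end Helper5.PAlg
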