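import Mathlib

set_option autoImplicit false

namespace Groth.Agent.Helper5

universe u

/-- A projective module is a direct summand of the free module on its underlying type. -/
lemma exists_compl_equiv_finsupp (R : Type u) (P : Type u) [CommRing R] [AddCommGroup P] [Module R P]
    [Module.Projective R P] :
    ∃ (Q : Submodule R (P →₀ R)), Nonempty ((P × Q) ≃ₗ[R] (P →₀ R)) := by
  obtain ⟨s, hs⟩ := Module.projective_def'.mp ‹Module.Projective R P›
  have hπs : ∀ p, Finsupp.linearCombination R (id : P → P) (s p) = p :=
    fun p => LinearMap.congr_fun hs p
  refine ⟨LinearMap.ker (Finsupp.linearCombination R (id : P → P)),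
    ⟨LinearEquiv.ofLinear
      (LinearMap.coprod s (LinearMap.ker (Finsupp.linearCombination R (id : P → P))).subtype)
      (LinearMap.prod (Finsupp.linearCombination R (id : P → P))
        (LinearMap.codRestrict (LinearMap.ker (Finsupp.linearCombination R (id : P → P)))
          (LinearMap.id - s ∘ₗ (Finsupp.linearCombination R (id : P → P)))
          (by intro x; simp [hπs]))) ?_ ?_⟩⟩
  · apply LinearMap.ext
    intro x
    simp
  · apply LinearMap.ext
    rintro ⟨p, k, hk⟩
    have hk' : Finsupp.linearCombination R (id : P → P) k = 0 := hk
    ext <;> simp [hπs, hk']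

end Groth.Agent.Helper5
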