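import Mathlib

/-! Helper lemmas on totally disconnected locally compact abelian groups and
residual finiteness of finitely generated abelian groups (helper5). -/

namespace Groth.Agent.Helper5

open Topology Pointwise

/-- For a compact open subset `V` of a topological additive group there is a neighbourhood `T`
of `0` with `V + T ⊆ V`. -/
theorem exists_nhds_add_subset {B : Type*} [AddGroup B] [TopologicalSpace B]
    [IsTopologicalAddGroup B] {V : Set B} (hVc : IsCompact V) (hVo : IsOpen V) :
    ∃ T ∈ 𝓝 (0 : B), V + T ⊆ V := by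
  apply hVc.induction_on (p := fun S ↦ ∃ T ∈ 𝓝 (0 : B), S + T ⊆ V)
  · exact ⟨Set.univ, Filter.univ_mem, by simp⟩
  · rintro s t hst ⟨T, hT, h⟩
    exact ⟨T, hT, (Set.add_subset_add_right hst).trans h⟩
  · rintro s t ⟨T₁, hT₁, h₁⟩ ⟨T₂, hT₂, h₂⟩
    refine ⟨T₁ ∩ T₂, Filter.inter_mem hT₁ hT₂, ?_⟩
    rw [Set.union_add]
    exact Set.union_subset ((Set.add_subset_add_left Set.inter_subset_left).trans h₁)
      ((Set.add_subset_add_left Set.inter_subset_right).trans h₂)
  · intro x hx
    have : (x, (0 : B)) ∈ (fun p : B × B ↦ p.1 + p.2) ⁻¹' V := by simpa using hx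
    rcases isOpen_prod_iff.mp (continuous_add.isOpen_preimage V hVo) x 0 this with
      ⟨U, T, hU, hT, hxU, h0T, hsub⟩
    refine ⟨U ∩ V, ?_, T, hT.mem_nhds h0T, ?_⟩
    · exact mem_nhdsWithin.mpr ⟨U, hU, hxU, fun _ h => h⟩
    · rintro _ ⟨u, hu, t, ht, rfl⟩
      exact hsub (Set.mk_mem_prod hu.1 ht)

/-- van Dantzig: in a Hausdorff locally compact totally disconnected topological abelian group
every neighbourhood of `0` contains an open subgroup. -/
theorem exists_open_addSubgroup_subset {B : Type*} [AddCommGroup B] [TopologicalSpace B]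
    [IsTopologicalAddGroup B] [T2Space B] [LocallyCompactSpace B] [TotallyDisconnectedSpace B]
    {W : Set B} (hW : W ∈ 𝓝 (0 : B)) :
    ∃ H : AddSubgroup B, IsOpen (H : Set B) ∧ (H : Set B) ⊆ W := by
  obtain ⟨C, hC0, hCW, hCc⟩ := local_compact_nhds hW
  obtain ⟨V, hVclopen, h0V, hVC⟩ :=
    loc_compact_Haus_tot_disc_of_zero_dim.mem_nhds_iff.1 (interior_mem_nhds.mpr hC0)
  have hVclopen' : IsClopen V := hVclopen
  have hVc : IsCompact V := hCc.of_isClosed_subset hVclopen'.1 (hVC.trans interior_subset)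
  obtain ⟨T, hT, hVT⟩ := exists_nhds_add_subset hVc hVclopen'.2
  set T' := T ∩ -T with hT'def
  have hT' : T' ∈ 𝓝 (0 : B) := Filter.inter_mem hT (neg_mem_nhds_zero B hT)
  refine ⟨AddSubgroup.closure T', AddSubgroup.isOpen_of_mem_nhds _
    (Filter.mem_of_superset hT' AddSubgroup.subset_closure), ?_⟩
  have key' : ∀ s ∈ AddSubmonoid.closure (T' ∪ -T'), ∀ v ∈ V, v + s ∈ V := by
    intro s hs'
    induction hs' using AddSubmonoid.closure_induction with
    | mem x hx =>
      intro v hv
      apply hVT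
      refine Set.add_mem_add hv ?_
      rcases hx with hx | hx
      · exact hx.1
      · have h2 := (Set.mem_neg.mp hx).2
        simpa using h2
    | zero => intro v hv; simpa using hv
    | add x y _ _ hx hy =>
      intro v hv
      rw [← add_assoc]
      exact hy _ (hx v hv)
  have key : ∀ s ∈ AddSubgroup.closure T', ∀ v ∈ V, v + s ∈ V := by
    intro s hs
    apply key'
    rw [← AddSubgroup.closure_toAddSubmonoid]; exact hs
  intro s hs
  have := key s hs 0 h0V
  rw [zero_add] at this
  exact hCW (interior_subset (hVC this))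

/-- A finitely generated abelian group is residually finite. -/
theorem exists_finiteIndex_not_mem_of_fg {Q : Type*} [AddCommGroup Q] [AddGroup.FG Q] {q : Q}
    (hq : q ≠ 0) : ∃ H : AddSubgroup Q, H.FiniteIndex ∧ q ∉ H := by
  haveI : Module.Finite ℤ Q := Module.Finite.iff_addGroup_fg.mpr inferInstance
  haveI : IsNoetherian ℤ Q := inferInstance
  have hne : {N : Submodule ℤ Q | q ∉ N}.Nonempty := ⟨⊥, by simpa using hq⟩
  obtain ⟨M, hM, hmax⟩ := (set_has_maximal_iff_noetherian (R := ℤ) (M := Q)).mpr inferInstance _ hne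
  have hM' : q ∉ M := hM
  -- every element of the quotient is torsion
  have htors : ∀ x : Q, ∃ n : ℕ, 0 < n ∧ n • x ∈ M := by
    intro x
    by_cases hx : x ∈ M
    · exact ⟨1, one_pos, by simpa using hx⟩
    have hlt : ∀ y : Q, y ∉ M → q ∈ M ⊔ Submodule.span ℤ {y} := by
      intro y hy
      by_contra hcon
      have : M < M ⊔ Submodule.span ℤ {y} := by
        refine lt_of_le_of_ne le_sup_left ?_
        intro h
        apply hy
        rw [h]
        exact Submodule.mem_sup_right (Submodule.mem_span_singleton_self y)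
      exact hmax _ hcon this
    obtain ⟨m, hm, z, hz, hq1⟩ := Submodule.mem_sup.mp (hlt x hx)
    obtain ⟨a, rfl⟩ := Submodule.mem_span_singleton.mp hz
    have ha : a ≠ 0 := by
      rintro rfl
      apply hM'
      rw [← hq1]
      simpa using hm
    by_cases h2 : (2 * a) • x ∈ M
    · refine ⟨(2 * a).natAbs, Int.natAbs_pos.mpr (by omega), ?_⟩
      rcases Int.natAbs_eq (2 * a) with h | h
      · rw [← natCast_zsmul, ← h]; exact h2
      · have : ((2 * a).natAbs : ℤ) = -(2 * a) := by omega
        rw [← natCast_zsmul, this, neg_smul]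
        exact M.neg_mem h2
    · obtain ⟨m', hm', z', hz', hq2⟩ := Submodule.mem_sup.mp (hlt _ h2)
      obtain ⟨c, rfl⟩ := Submodule.mem_span_singleton.mp hz'
      have hkey : (a * (1 - 2 * c)) • x ∈ M := by
        have : (a * (1 - 2 * c)) • x = m' - m := by
          have e1 : m + a • x = m' + c • (2 * a) • x := by rw [hq1, hq2]
          have e2 : (a * (1 - 2 * c)) • x = a • x - c • (2 * a) • x := by
            rw [smul_smul, ← sub_smul]; congr 1; ring
          rw [e2]
          have : a • x = m' + c • (2 * a) • x - m := by rw [← e1]; abel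
          rw [this]; abel
        rw [this]
        exact M.sub_mem hm' hm
      have hne0 : a * (1 - 2 * c) ≠ 0 := mul_ne_zero ha (by omega)
      refine ⟨(a * (1 - 2 * c)).natAbs, Int.natAbs_pos.mpr hne0, ?_⟩
      rcases Int.natAbs_eq (a * (1 - 2 * c)) with h | h
      · rw [← natCast_zsmul, ← h]; exact hkey
      · have : ((a * (1 - 2 * c)).natAbs : ℤ) = -(a * (1 - 2 * c)) := by omega
        rw [← natCast_zsmul, this, neg_smul]
        exact M.neg_mem hkey
  refine ⟨M.toAddSubgroup, ?_, hM'⟩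
  haveI : AddGroup.FG (Q ⧸ M.toAddSubgroup) := inferInstance
  have htor : IsAddTorsion (Q ⧸ M.toAddSubgroup) := by
    intro y
    obtain ⟨x, rfl⟩ := QuotientAddGroup.mk_surjective y
    obtain ⟨n, hn, hnx⟩ := htors x
    rw [isOfFinAddOrder_iff_nsmul_eq_zero]
    refine ⟨n, hn, ?_⟩
    rw [← QuotientAddGroup.mk_nsmul, QuotientAddGroup.eq_zero_iff]
    exact hnx
  haveI : Finite (Q ⧸ M.toAddSubgroup) := AddCommGroup.finite_of_fg_isAddTorsion _ htor
  exact AddSubgroup.finiteIndex_of_finite_quotient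

/-- The quotient of a compactly generated topological abelian group by an open subgroup is a
finitely generated group. -/
theorem fg_quotient_of_isOpen {B : Type*} [AddCommGroup B] [TopologicalSpace B]
    [IsTopologicalAddGroup B] (hcg : ∃ K : Set B, IsCompact K ∧ AddSubgroup.closure K = ⊤)
    (U : AddSubgroup B) (hUo : IsOpen (U : Set B)) : AddGroup.FG (B ⧸ U) := by
  classical
  obtain ⟨K, hK, hKgen⟩ := hcg
  have hcover : K ⊆ ⋃ k ∈ K, (fun x => k + x) '' (U : Set B) := by
    intro k hk
    simp only [Set.mem_iUnion]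
    exact ⟨k, hk, 0, U.zero_mem, by simp⟩
  obtain ⟨F, hFK, hF⟩ := hK.elim_finite_subcover_image (b := K)
    (c := fun k => (fun x => k + x) '' (U : Set B))
    (fun k _ => (Homeomorph.addLeft k).isOpenMap _ hUo) hcover
  rw [AddGroup.fg_iff]
  refine ⟨(QuotientAddGroup.mk' U) '' F, ?_, hF.1.image _⟩
  have h1 : AddSubgroup.closure ((QuotientAddGroup.mk' U) '' K) = ⊤ := by
    rw [← AddMonoidHom.map_closure, hKgen, ← AddMonoidHom.range_eq_map,
      AddMonoidHom.range_eq_top.mpr (QuotientAddGroup.mk'_surjective U)]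
  rw [eq_top_iff, ← h1]
  apply AddSubgroup.closure_mono
  rintro _ ⟨k, hk, rfl⟩
  have := hF.2 hk
  simp only [Set.mem_iUnion] at this
  obtain ⟨k₀, hk₀, u, hu, rfl⟩ := this
  refine ⟨k₀, hk₀, ?_⟩
  simp only [QuotientAddGroup.mk'_apply, QuotientAddGroup.mk_add]
  rw [(QuotientAddGroup.eq_zero_iff u).mpr hu, add_zero]

/-- In a finitely generated abelian group, a finite subgroup meets some finite index subgroup
trivially. -/
theorem exists_finiteIndex_inf_eq_bot_of_fg {Q : Type*} [AddCommGroup Q] [AddGroup.FG Q]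
    (F : AddSubgroup Q) [Finite F] : ∃ H : AddSubgroup Q, H.FiniteIndex ∧ H ⊓ F = ⊥ := by
  classical
  have hch : ∀ f : {f : F // (f : Q) ≠ 0}, ∃ H : AddSubgroup Q, H.FiniteIndex ∧ (f.1 : Q) ∉ H :=
    fun f => exists_finiteIndex_not_mem_of_fg f.2
  choose H hHfin hHf using hch
  refine ⟨⨅ f, H f, AddSubgroup.finiteIndex_iInf hHfin, ?_⟩
  rw [eq_bot_iff]
  intro x hx
  rw [AddSubgroup.mem_inf] at hx
  rw [AddSubgroup.mem_bot]
  by_contra hx0
  have := (AddSubgroup.mem_iInf.mp hx.1) ⟨⟨x, hx.2⟩, hx0⟩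
  exact hHf ⟨⟨x, hx.2⟩, hx0⟩ this

/-- Open finite index subgroups of a strictly embedded subgroup of a compactly generated
t.d.l.c. abelian group contain the traces of open finite index subgroups of the big group. -/
theorem exists_openFI_comap_le {A B : Type*} [AddCommGroup A] [TopologicalSpace A]
    [AddCommGroup B] [TopologicalSpace B] [IsTopologicalAddGroup B]
    [T2Space B] [LocallyCompactSpace B] [TotallyDisconnectedSpace B]
    (hcg : ∃ K : Set B, IsCompact K ∧ AddSubgroup.closure K = ⊤)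
    (i : A →+ B) (hind : IsInducing i) (U : AddSubgroup A) (hUo : IsOpen (U : Set A))
    [U.FiniteIndex] :
    ∃ V : AddSubgroup B, IsOpen (V : Set B) ∧ V.FiniteIndex ∧ V.comap i ≤ U := by
  classical
  obtain ⟨W, hWo, hWU⟩ := hind.isOpen_iff.mp hUo
  have h0W : (0 : B) ∈ W := by
    have : (0 : A) ∈ i ⁻¹' W := by rw [hWU]; exact U.zero_mem
    simpa using this
  obtain ⟨H, hHo, hHW⟩ := exists_open_addSubgroup_subset (hWo.mem_nhds h0W)
  set N : AddSubgroup B := U.map i ⊔ H with hN
  have hNo : IsOpen (N : Set B) := AddSubgroup.isOpen_mono (H₁ := H) le_sup_right hHo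
  haveI : AddGroup.FG (B ⧸ N) := fg_quotient_of_isOpen hcg N hNo
  have hkill : U ≤ ((QuotientAddGroup.mk' N).comp i).ker := by
    intro u hu
    rw [AddMonoidHom.mem_ker, AddMonoidHom.comp_apply, QuotientAddGroup.mk'_apply,
      QuotientAddGroup.eq_zero_iff]
    exact AddSubgroup.mem_sup_left (AddSubgroup.mem_map_of_mem i hu)
  set g : A ⧸ U →+ B ⧸ N := QuotientAddGroup.lift U ((QuotientAddGroup.mk' N).comp i) hkill with hg
  haveI : Finite (A ⧸ U) := AddSubgroup.finite_quotient_of_finiteIndex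
  haveI : Finite g.range := Finite.of_surjective g.rangeRestrict g.rangeRestrict_surjective
  obtain ⟨Vb, hVfin, hVinf⟩ := exists_finiteIndex_inf_eq_bot_of_fg g.range
  refine ⟨Vb.comap (QuotientAddGroup.mk' N), ?_, ?_, ?_⟩
  · refine AddSubgroup.isOpen_mono (H₁ := N) ?_ hNo
    intro u hu
    rw [AddSubgroup.mem_comap, QuotientAddGroup.mk'_apply, (QuotientAddGroup.eq_zero_iff u).mpr hu]
    exact Vb.zero_mem
  · constructor
    rw [AddSubgroup.index_comap_of_surjective _ (QuotientAddGroup.mk'_surjective N)]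
    exact hVfin.index_ne_zero
  · intro a ha
    rw [AddSubgroup.mem_comap, AddSubgroup.mem_comap, QuotientAddGroup.mk'_apply] at ha
    have hmem : (QuotientAddGroup.mk (i a) : B ⧸ N) ∈ Vb ⊓ g.range := by
      refine ⟨ha, ⟨QuotientAddGroup.mk a, ?_⟩⟩
      simp [hg]
    rw [hVinf, AddSubgroup.mem_bot, QuotientAddGroup.eq_zero_iff, hN] at hmem
    obtain ⟨y, hy, h, hh, hyh⟩ := AddSubgroup.mem_sup.mp hmem
    obtain ⟨u, hu, rfl⟩ := hy
    have h1 : i (a - u) = h := by rw [map_sub, ← hyh]; abel
    have h2 : a - u ∈ i ⁻¹' W := by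
      change i (a - u) ∈ W
      rw [h1]; exact hHW hh
    rw [hWU] at h2
    have : a = (a - u) + u := by abel
    rw [this]
    exact U.add_mem h2 hu

end Groth.Agent.Helper5
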